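import Groth.Agent.WildQuot.K873.ASReg
import Groth.Agent.CalgB.PowField

/-!
# The Artin–Schreier family over `k[[x_1, …, x_n]]`
-/

set_option autoImplicit false
universe u v w
open MvPolynomial IsLocalRing

namespace K873.ASPow

open K873.ArtSch K873.ASReg

variable (p : ℕ) {k : Type u} [Field k] {n : ℕ} (a : Fin n → MvPowerSeries (Fin n) k)

theorem mem_maximalIdeal {f : MvPowerSeries (Fin n) k} (hf : MvPowerSeries.constantCoeff f = 0) :
    f ∈ maximalIdeal (MvPowerSeries (Fin n) k) := by
  rw [IsLocalRing.mem_maximalIdeal, mem_nonunits_iff, MvPowerSeries.isUnit_iff_constantCoeff, hf]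
  exact not_isUnit_zero

theorem span_X : Ideal.span (Set.range (MvPowerSeries.X : Fin n → MvPowerSeries (Fin n) k)) =
    maximalIdeal (MvPowerSeries (Fin n) k) :=
  (Groth.Agent.CalgB.PowField.maximalIdeal_eq k n).symm

theorem ringKrullDim_eq : ringKrullDim (MvPowerSeries (Fin n) k) = Fintype.card (Fin n) := by
  rw [Fintype.card_fin]
  exact Groth.Agent.CalgB.PowField.ringKrullDim_eq k n

theorem isRegularLocalRing (hp : 2 ≤ p) (ham : ∀ i, MvPowerSeries.constantCoeff (a i) = 0) :
    IsRegularLocalRing (MvPolynomial (Fin n) (MvPowerSeries (Fin n) k) ⧸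
      asI p a MvPowerSeries.X) :=
  ASReg.isRegularLocalRing p a _ hp span_X (fun i => mem_maximalIdeal (ham i)) ringKrullDim_eq

theorem isAdicComplete (hp : 2 ≤ p) (ham : ∀ i, MvPowerSeries.constantCoeff (a i) = 0) :
    IsAdicComplete (mI p a MvPowerSeries.X) (MvPolynomial (Fin n) (MvPowerSeries (Fin n) k) ⧸
      asI p a MvPowerSeries.X) := by
  have := Groth.Agent.CalgB.PowField.isAdicComplete k n
  exact ASReg.isAdicComplete p a _ hp span_X (fun i => mem_maximalIdeal (ham i))

theorem isDomain (hp : 2 ≤ p) (ham : ∀ i, MvPowerSeries.constantCoeff (a i) = 0) :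
    IsDomain (MvPolynomial (Fin n) (MvPowerSeries (Fin n) k) ⧸ asI p a MvPowerSeries.X) :=
  ASReg.isDomain p a _ hp span_X (fun i => mem_maximalIdeal (ham i)) ringKrullDim_eq

theorem isMaximal (hp : 2 ≤ p) : (mI p a MvPowerSeries.X).IsMaximal :=
  ASReg.isMaximal p a _ hp span_X

theorem map_span_eq {R : Type u} [CommRing R] {ι : Type v} (I : Ideal (MvPolynomial ι R)) :
    Ideal.map (Ideal.Quotient.mk I) (Ideal.span (Set.range (X : ι → MvPolynomial ι R))) =
      Ideal.span (Set.range fun i => Ideal.Quotient.mk I (X i)) := by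
  rw [Ideal.map_span, ← Set.range_comp]
  rfl

end K873.ASPow
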