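import Groth.Agent.WildQuot.K873.ArtSch

/-!
# Automorphisms of the Artin–Schreier family
-/

set_option autoImplicit false
universe u v w
open MvPolynomial

namespace K873.ASAut

open K873.ArtSch

/-- Elements fixed by a finite group of order the rank are rational over the base. -/
theorem exists_mul_eq {R : Type u} {A : Type v} [CommRing R] [IsDomain R] [CommRing A] [IsDomain A]
    [Algebra R A] [FaithfulSMul R A] [Module.Finite R A] (G : Type w) [Group G] [Finite G]
    [MulSemiringAction G A] [FaithfulSMul G A] [SMulCommClass G R A]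
    (hcard : Module.finrank R A ≤ Nat.card G) (b : A) (hb : ∀ g : G, g • b = b) :
    ∃ r s : R, r ≠ 0 ∧ algebraMap R A r * b = algebraMap R A s := by
  let B := FixedPoints.subalgebra R A G
  have hinv : Algebra.IsInvariant B A G := ⟨fun b hb => ⟨⟨b, hb⟩, rfl⟩⟩
  have hgal : IsGaloisGroup G B A := ⟨inferInstance, inferInstance, hinv⟩
  have hBf : FaithfulSMul B A := inferInstance
  have hc : Nat.card G = Module.finrank B A := IsGaloisGroup.card_eq_finrank' G B A
  by_contra hcon
  push Not at hcon
  have hli : LinearIndependent R ![(1 : B), ⟨b, hb⟩] := by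
    rw [LinearIndependent.pair_iff]
    intro s t hst
    have h1 : algebraMap R A s + algebraMap R A t * b = 0 := by
      have := congrArg (algebraMap B A) hst
      rw [map_add, map_zero, Algebra.smul_def, Algebra.smul_def, map_mul, map_mul, map_one,
        mul_one, ← IsScalarTower.algebraMap_apply, ← IsScalarTower.algebraMap_apply] at this
      exact this
    have ht : t = 0 := by
      by_contra ht
      refine hcon t (-s) ht ?_
      rw [map_neg]
      exact (eq_neg_of_add_eq_zero_right h1)
    subst ht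
    rw [map_zero, zero_mul, add_zero] at h1
    exact ⟨(FaithfulSMul.algebraMap_injective R A) (by rw [h1, map_zero]), rfl⟩
  obtain ⟨c, hcli⟩ := exists_linearIndependent_of_le_finrank (R := B) (M := A) (n := Nat.card G) hc.le
  have hli2 := linearIndependent_smul hli hcli
  have h3 := hli2.fintype_card_le_finrank
  rw [Fintype.card_prod, Fintype.card_fin, Fintype.card_fin] at h3
  have h4 : 0 < Nat.card G := Nat.card_pos
  omega

variable (p : ℕ) [Fact p.Prime] {R : Type u} [CommRing R] [CharP R p] {ι : Type v} [Fintype ι]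
  (a x : ι → R)

theorem charP [Nontrivial R] : CharP (MvPolynomial ι R ⧸ asI p a x) p :=
  charP_of_injective_algebraMap (algebraMap_injective p a x (Fact.out : p.Prime).two_le) p

/-- the substitution `u_i ↦ u_i + c_i a_i` for constants `c_i` with `c_i ^ p = c_i`. -/
noncomputable def shift [Nontrivial R] (c : ι → R) (hc : ∀ i, c i ^ p = c i) :
    (MvPolynomial ι R ⧸ asI p a x) →ₐ[R] (MvPolynomial ι R ⧸ asI p a x) :=
  lift p a x (fun i => Ideal.Quotient.mk (asI p a x) (X i) + algebraMap R _ (c i * a i)) (by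
    intro i
    have := charP p a x
    have hp : 2 ≤ p := (Fact.out : p.Prime).two_le
    rw [add_pow_char, rel, ← map_pow, mul_pow, hc i, mul_add, ← map_mul]
    have h1 : c i * a i ^ p = a i ^ (p - 1) * (c i * a i) := by
      have h2 : a i ^ p = a i ^ (p - 1) * a i := by
        rw [← pow_succ, Nat.sub_add_cancel (by omega)]
      rw [h2]; ring
    rw [h1]
    ring)

theorem shift_X [Nontrivial R] (c : ι → R) (hc : ∀ i, c i ^ p = c i) (i : ι) :
    shift p a x c hc (Ideal.Quotient.mk (asI p a x) (X i)) =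
      Ideal.Quotient.mk (asI p a x) (X i) + algebraMap R _ (c i * a i) :=
  lift_X _ _ _ _ _ i

theorem cst_pow (c : ZMod p) : ZMod.castHom (dvd_refl p) R c ^ p = ZMod.castHom (dvd_refl p) R c := by
  rw [← map_pow, ZMod.pow_card]

variable [Nontrivial R]

/-- the automorphism `u_i ↦ u_i + c_i a_i`. -/
noncomputable def sh (c : ι → ZMod p) :
    (MvPolynomial ι R ⧸ asI p a x) ≃ₐ[R] (MvPolynomial ι R ⧸ asI p a x) :=
  AlgEquiv.ofAlgHom (shift p a x (fun i => ZMod.castHom (dvd_refl p) R (c i)) fun i => cst_pow p (c i))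
    (shift p a x (fun i => ZMod.castHom (dvd_refl p) R (-c i)) fun i => cst_pow p (-c i))
    (SepVar.algHom_ext (by
      intro i
      rw [AlgHom.comp_apply, shift_X, map_add, AlgHom.commutes, shift_X, AlgHom.id_apply, add_assoc,
        ← map_add, ← add_mul, ← map_add, add_neg_cancel, map_zero, zero_mul, map_zero, add_zero]))
    (SepVar.algHom_ext (by
      intro i
      rw [AlgHom.comp_apply, shift_X, map_add, AlgHom.commutes, shift_X, AlgHom.id_apply, add_assoc,
        ← map_add, ← add_mul, ← map_add, neg_add_cancel, map_zero, zero_mul, map_zero, add_zero]))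

theorem sh_X (c : ι → ZMod p) (i : ι) :
    sh p a x c (Ideal.Quotient.mk (asI p a x) (X i)) =
      Ideal.Quotient.mk (asI p a x) (X i) + algebraMap R _ (ZMod.castHom (dvd_refl p) R (c i) * a i) :=
  shift_X p a x _ (fun i => cst_pow p (c i)) i

theorem sh_zero : sh p a x 0 = 1 := by
  refine AlgEquiv.coe_toAlgHom_injective (SepVar.algHom_ext fun i => ?_)
  change sh p a x 0 (Ideal.Quotient.mk (asI p a x) (X i)) = Ideal.Quotient.mk (asI p a x) (X i)
  rw [sh_X, Pi.zero_apply, map_zero, zero_mul, map_zero, add_zero]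

theorem sh_add (c d : ι → ZMod p) : sh p a x (c + d) = sh p a x c * sh p a x d := by
  refine AlgEquiv.coe_toAlgHom_injective (SepVar.algHom_ext fun i => ?_)
  change sh p a x (c + d) (Ideal.Quotient.mk (asI p a x) (X i)) =
    sh p a x c (sh p a x d (Ideal.Quotient.mk (asI p a x) (X i)))
  rw [sh_X, sh_X, map_add, AlgEquiv.commutes, sh_X, Pi.add_apply, map_add, add_mul, map_add, add_assoc]

theorem sh_nsmul (m : ℕ) (c : ι → ZMod p) : sh p a x (m • c) = sh p a x c ^ m := by
  induction m with
  | zero => rw [zero_nsmul, sh_zero, pow_zero]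
  | succ m ih => rw [succ_nsmul, sh_add, ih, pow_succ]

theorem sh_injective [IsDomain R] (ha : ∀ i, a i ≠ 0) : Function.Injective (sh p a x) := by
  intro c d h
  funext i
  have h1 := congrArg (fun σ => σ (Ideal.Quotient.mk (asI p a x) (X i))) h
  simp only [sh_X] at h1
  have h2 := algebraMap_injective p a x (Fact.out : p.Prime).two_le (add_left_cancel h1)
  exact (ZMod.castHom (dvd_refl p) R).injective (mul_right_cancel₀ (ha i) h2)

/-- In a domain of characteristic `p`, `d ^ p = a ^ (p-1) d` forces `d ∈ 𝔽_p a`. -/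
theorem exists_eq_mul {D : Type w} [CommRing D] [IsDomain D] [CharP D p] (a d : D)
    (h : d ^ p = a ^ (p - 1) * d) (ha : a ≠ 0) : ∃ c : ZMod p, d = ZMod.castHom (dvd_refl p) D c * a := by
  let F := FractionRing D
  have hchar : CharP F p := charP_of_injective_algebraMap (IsFractionRing.injective D F) p
  have ha' : algebraMap D F a ≠ 0 := by
    rwa [Ne, IsFractionRing.to_map_eq_zero_iff]
  have hp : 2 ≤ p := (Fact.out : p.Prime).two_le
  have h1 : (algebraMap D F d / algebraMap D F a) ^ p = algebraMap D F d / algebraMap D F a := by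
    rw [div_pow, ← map_pow, h, map_mul, map_pow]
    have h2 : algebraMap D F a ^ p = algebraMap D F a ^ (p - 1) * algebraMap D F a := by
      rw [← pow_succ, Nat.sub_add_cancel (by omega)]
    rw [h2, mul_div_mul_left _ _ (pow_ne_zero _ ha')]
  have h2 := (Subfield.mem_bot_iff_pow_eq_self F p).mpr h1
  rw [← ZMod.fieldRange_castHom_eq_bot p, RingHom.mem_fieldRange] at h2
  obtain ⟨c, hc⟩ := h2
  refine ⟨c, IsFractionRing.injective D F ?_⟩
  rw [eq_div_iff ha'] at hc
  rw [map_mul, ← hc]
  congr 1
  exact DFunLike.congr_fun (Subsingleton.elim (ZMod.castHom (dvd_refl p) F)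
    ((algebraMap D F).comp (ZMod.castHom (dvd_refl p) D))) c

theorem sh_surjective [IsDomain (MvPolynomial ι R ⧸ asI p a x)] (ha : ∀ i, a i ≠ 0) :
    Function.Surjective (sh p a x) := by
  intro σ
  have := charP p a x
  have hp : 2 ≤ p := (Fact.out : p.Prime).two_le
  have h : ∀ i, ∃ c : ZMod p, σ (Ideal.Quotient.mk (asI p a x) (X i)) -
      Ideal.Quotient.mk (asI p a x) (X i) =
      ZMod.castHom (dvd_refl p) (MvPolynomial ι R ⧸ asI p a x) c * algebraMap R _ (a i) := by
    intro i
    refine exists_eq_mul p _ _ ?_ ?_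
    · rw [sub_pow_char, ← map_pow, rel, map_add, map_mul, AlgEquiv.commutes, AlgEquiv.commutes, ← map_pow]
      ring
    · rw [Ne, (injective_iff_map_eq_zero' _).mp (algebraMap_injective p a x hp)]
      exact ha i
  choose c hc using h
  refine ⟨c, AlgEquiv.coe_toAlgHom_injective (SepVar.algHom_ext fun i => ?_)⟩
  change sh p a x c (Ideal.Quotient.mk (asI p a x) (X i)) = σ (Ideal.Quotient.mk (asI p a x) (X i))
  rw [sh_X, map_mul, ← sub_add_cancel (σ _) (Ideal.Quotient.mk (asI p a x) (X i)), hc i, add_comm]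
  congr 2
  exact DFunLike.congr_fun (Subsingleton.elim
    ((algebraMap R (MvPolynomial ι R ⧸ asI p a x)).comp (ZMod.castHom (dvd_refl p) R))
    (ZMod.castHom (dvd_refl p) (MvPolynomial ι R ⧸ asI p a x))) (c i)

/-- the group of automorphisms is parametrized by `ι → ZMod p`. -/
noncomputable def equiv [IsDomain R] [IsDomain (MvPolynomial ι R ⧸ asI p a x)] (ha : ∀ i, a i ≠ 0) :
    (ι → ZMod p) ≃ ((MvPolynomial ι R ⧸ asI p a x) ≃ₐ[R] (MvPolynomial ι R ⧸ asI p a x)) :=
  Equiv.ofBijective _ ⟨sh_injective p a x ha, sh_surjective p a x ha⟩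

theorem card_aut [IsDomain R] [IsDomain (MvPolynomial ι R ⧸ asI p a x)] (ha : ∀ i, a i ≠ 0) :
    Nat.card ((MvPolynomial ι R ⧸ asI p a x) ≃ₐ[R] (MvPolynomial ι R ⧸ asI p a x)) =
      p ^ Fintype.card ι := by
  classical
  rw [← Nat.card_congr (equiv p a x ha)]
  simp

omit [CharP R p] in
/-- A rational element of the family comes from the base. -/
theorem mem_range_of_mul_eq [IsDomain R] {b : MvPolynomial ι R ⧸ asI p a x} {r s : R} (hr : r ≠ 0)
    (h : algebraMap R _ r * b = algebraMap R _ s) :
    b ∈ Set.range (algebraMap R (MvPolynomial ι R ⧸ asI p a x)) := by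
  have hp : 2 ≤ p := (Fact.out : p.Prime).two_le
  let bs := basis p a x hp
  let e0 : ι → Fin p := fun _ => ⟨0, by omega⟩
  have hb0 : bs e0 = 1 := basis_zero p a x hp
  refine ⟨bs.repr b e0, ?_⟩
  rw [Algebra.algebraMap_eq_smul_one, ← hb0]
  refine bs.ext_elem fun e => ?_
  rw [map_smul, bs.repr_self, Finsupp.smul_apply, Finsupp.single_apply]
  split_ifs with he
  · rw [smul_eq_mul, mul_one, he]
  · rw [smul_zero]
    have h1 := congrArg (fun z => bs.repr z e) h
    rw [← Algebra.smul_def, map_smul, Finsupp.smul_apply, Algebra.algebraMap_eq_smul_one, ← hb0, map_smul,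
      bs.repr_self, Finsupp.smul_apply, Finsupp.single_apply, if_neg he, smul_zero, smul_eq_mul] at h1
    exact ((mul_eq_zero.mp h1).resolve_left hr).symm

theorem mem_range_of_fixed [IsDomain R] [IsDomain (MvPolynomial ι R ⧸ asI p a x)] (ha : ∀ i, a i ≠ 0)
    (b : MvPolynomial ι R ⧸ asI p a x)
    (hb : ∀ σ : (MvPolynomial ι R ⧸ asI p a x) ≃ₐ[R] (MvPolynomial ι R ⧸ asI p a x), σ b = b) :
    b ∈ Set.range (algebraMap R (MvPolynomial ι R ⧸ asI p a x)) := by
  have hp : 2 ≤ p := (Fact.out : p.Prime).two_le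
  have hfin := finite p a x hp
  have : FaithfulSMul R (MvPolynomial ι R ⧸ asI p a x) :=
    (faithfulSMul_iff_algebraMap_injective _ _).mpr (algebraMap_injective p a x hp)
  have : Finite ((MvPolynomial ι R ⧸ asI p a x) ≃ₐ[R] (MvPolynomial ι R ⧸ asI p a x)) :=
    Finite.of_equiv _ (equiv p a x ha)
  obtain ⟨r, s, hr, h⟩ := exists_mul_eq
    ((MvPolynomial ι R ⧸ asI p a x) ≃ₐ[R] (MvPolynomial ι R ⧸ asI p a x))
    (by rw [card_aut p a x ha, finrank_eq p a x hp]) b hb
  exact mem_range_of_mul_eq p a x hr h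

end K873.ASAut
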