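import Mathlib.RingTheory.Length
import Mathlib.RingTheory.Ideal.Quotient.Operations
import Mathlib.Data.Fin.Tuple.Basic
import Mathlib.Algebra.BigOperators.Fin
import Mathlib.Data.Fintype.BigOperators
import Mathlib.Tactic.LinearCombination

/-!
# Lengths of quotients by products

`length (A / (J, a b)) ≤ length (A / (J, a)) + length (A / (J, b))`, with equality when `a` is a
nonzerodivisor modulo `J`; iterated over finite products in one and in several coordinates.
-/

set_option autoImplicit false
universe u v

namespace K873.Len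

variable {A : Type u} [CommRing A]

/-- Multiplication by `a` from `A/(J,b)` to `A/(J,ab)`. -/
def mulQ (J : Ideal A) (a b : A) :
    (A ⧸ (J ⊔ Ideal.span {b})) →ₗ[A] (A ⧸ (J ⊔ Ideal.span {a * b})) :=
  Submodule.mapQ _ _ (LinearMap.mulLeft A a) (by
    rw [sup_le_iff]
    constructor
    · intro x hx
      exact le_sup_left (a := J) (J.mul_mem_left _ hx)
    · intro x hx
      obtain ⟨c, rfl⟩ := Ideal.mem_span_singleton'.mp hx
      refine le_sup_right (a := J) (b := Ideal.span {a * b}) ?_
      exact Ideal.mem_span_singleton'.mpr ⟨c, by simp; ring⟩)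

theorem len_congr {I J : Ideal A} (h : I = J) :
    Module.length A (A ⧸ I) = Module.length A (A ⧸ J) := by rw [h]

theorem mulQ_mk (J : Ideal A) (a b x : A) :
    mulQ J a b (Submodule.Quotient.mk x) = Submodule.Quotient.mk (a * x) := rfl

/-- The projection from `A/(J,ab)` to `A/(J,a)`. -/
def prQ (J : Ideal A) (a b : A) :
    (A ⧸ (J ⊔ Ideal.span {a * b})) →ₗ[A] (A ⧸ (J ⊔ Ideal.span {a})) :=
  Submodule.mapQ _ _ LinearMap.id (by
    rw [sup_le_iff]
    constructor
    · intro x hx
      exact le_sup_left (a := J) hx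
    · intro x hx
      obtain ⟨c, rfl⟩ := Ideal.mem_span_singleton'.mp hx
      refine le_sup_right (a := J) (b := Ideal.span {a}) ?_
      exact Ideal.mem_span_singleton'.mpr ⟨c * b, by change c * b * a = c * (a * b); ring⟩)

theorem prQ_mk (J : Ideal A) (a b x : A) :
    prQ J a b (Submodule.Quotient.mk x) = Submodule.Quotient.mk x := rfl

theorem prQ_surjective (J : Ideal A) (a b : A) : Function.Surjective (prQ J a b) := by
  intro x
  obtain ⟨x, rfl⟩ := Submodule.Quotient.mk_surjective _ x
  exact ⟨Submodule.Quotient.mk x, rfl⟩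

theorem ker_prQ (J : Ideal A) (a b : A) : LinearMap.ker (prQ J a b) = LinearMap.range (mulQ J a b) := by
  ext x
  obtain ⟨x, rfl⟩ := Submodule.Quotient.mk_surjective _ x
  rw [LinearMap.mem_ker, prQ_mk, LinearMap.mem_range, Submodule.Quotient.mk_eq_zero,
    Submodule.mem_sup]
  constructor
  · rintro ⟨j, hj, y, hy, rfl⟩
    obtain ⟨c, rfl⟩ := Ideal.mem_span_singleton'.mp hy
    refine ⟨Submodule.Quotient.mk c, ?_⟩
    rw [mulQ_mk, Submodule.Quotient.eq]
    refine le_sup_left (a := J) ?_
    have : a * c - (j + c * a) = -j := by ring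
    rw [this]
    exact neg_mem hj
  · rintro ⟨y, hy⟩
    obtain ⟨y, rfl⟩ := Submodule.Quotient.mk_surjective _ y
    rw [mulQ_mk, Submodule.Quotient.eq, Submodule.mem_sup] at hy
    obtain ⟨j, hj, z, hz, hjz⟩ := hy
    obtain ⟨c, rfl⟩ := Ideal.mem_span_singleton'.mp hz
    refine ⟨-j, neg_mem hj, y * a - c * (b * a), Ideal.mem_span_singleton'.mpr ⟨y - c * b, by ring⟩, ?_⟩
    linear_combination -hjz

theorem length_eq_ker (J : Ideal A) (a b : A) :
    Module.length A (A ⧸ (J ⊔ Ideal.span {a * b})) =
      Module.length A (LinearMap.range (mulQ J a b)) +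
        Module.length A (A ⧸ (J ⊔ Ideal.span {a})) := by
  rw [← ker_prQ]
  exact Module.length_eq_add_of_exact (LinearMap.ker (prQ J a b)).subtype (prQ J a b)
    (Submodule.injective_subtype _) (prQ_surjective J a b)
    (LinearMap.exact_subtype_ker_map (prQ J a b))

theorem length_le (J : Ideal A) (a b : A) :
    Module.length A (A ⧸ (J ⊔ Ideal.span {a * b})) ≤
      Module.length A (A ⧸ (J ⊔ Ideal.span {a})) + Module.length A (A ⧸ (J ⊔ Ideal.span {b})) := by
  rw [length_eq_ker, add_comm]
  exact add_le_add le_rfl (Module.length_le_of_surjective (mulQ J a b).rangeRestrict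
    (mulQ J a b).surjective_rangeRestrict)

theorem length_eq (J : Ideal A) (a b : A) (ha : ∀ c, a * c ∈ J → c ∈ J) :
    Module.length A (A ⧸ (J ⊔ Ideal.span {a * b})) =
      Module.length A (A ⧸ (J ⊔ Ideal.span {a})) + Module.length A (A ⧸ (J ⊔ Ideal.span {b})) := by
  rw [length_eq_ker, add_comm]
  congr 1
  have hinj : Function.Injective (mulQ J a b) := by
    rw [← LinearMap.ker_eq_bot, LinearMap.ker_eq_bot']
    intro x hx
    obtain ⟨x, rfl⟩ := Submodule.Quotient.mk_surjective _ x
    rw [mulQ_mk, Submodule.Quotient.mk_eq_zero, Submodule.mem_sup] at hx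
    obtain ⟨j, hj, z, hz, hjz⟩ := hx
    obtain ⟨c, rfl⟩ := Ideal.mem_span_singleton'.mp hz
    rw [Submodule.Quotient.mk_eq_zero, Submodule.mem_sup]
    refine ⟨x - c * b, ha _ ?_, c * b, Ideal.mem_span_singleton'.mpr ⟨c, rfl⟩, by ring⟩
    have : a * (x - c * b) = j := by linear_combination -hjz
    rw [this]
    exact hj
  exact (LinearEquiv.ofInjective _ hinj).length_eq.symm

/-- One coordinate, upper bound. -/
theorem length_prod_le {ι : Type v} (J : Ideal A) (f : ι → A) (s : Finset ι) :
    Module.length A (A ⧸ (J ⊔ Ideal.span {∏ i ∈ s, f i})) ≤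
      ∑ i ∈ s, Module.length A (A ⧸ (J ⊔ Ideal.span {f i})) := by
  classical
  induction s using Finset.induction_on with
  | empty =>
    rw [Finset.prod_empty, Finset.sum_empty, Ideal.span_singleton_one, sup_top_eq]
    exact (Module.length_eq_zero_iff.mpr inferInstance).le
  | insert a s ha ih =>
    rw [Finset.prod_insert ha, Finset.sum_insert ha]
    exact (length_le J _ _).trans (add_le_add le_rfl ih)

/-- One coordinate, equality. -/
theorem length_prod_eq {ι : Type v} (J : Ideal A) (f : ι → A) (s : Finset ι)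
    (h : ∀ i ∈ s, ∀ c, f i * c ∈ J → c ∈ J) :
    Module.length A (A ⧸ (J ⊔ Ideal.span {∏ i ∈ s, f i})) =
      ∑ i ∈ s, Module.length A (A ⧸ (J ⊔ Ideal.span {f i})) := by
  classical
  induction s using Finset.induction_on with
  | empty =>
    rw [Finset.prod_empty, Finset.sum_empty, Ideal.span_singleton_one, sup_top_eq]
    exact (Module.length_eq_zero_iff.mpr inferInstance)
  | insert a s ha ih =>
    rw [Finset.prod_insert ha, Finset.sum_insert ha,
      length_eq J _ _ (h a (Finset.mem_insert_self _ _)),
      ih fun i hi => h i (Finset.mem_insert_of_mem hi)]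

theorem span_range_succ {n : ℕ} (x : Fin (n + 1) → A) :
    Ideal.span (Set.range x) = Ideal.span {x 0} ⊔ Ideal.span (Set.range fun i : Fin n => x i.succ) := by
  rw [← Ideal.span_union]
  congr 1
  ext y
  constructor
  · rintro ⟨i, rfl⟩
    refine Fin.cases ?_ (fun i => ?_) i
    · left; rfl
    · right; exact ⟨i, rfl⟩
  · rintro (rfl | ⟨i, rfl⟩)
    · exact ⟨0, rfl⟩
    · exact ⟨i.succ, rfl⟩

/-- Several coordinates, upper bound. -/
theorem length_multi_le {ι : Type v} [Fintype ι] (n : ℕ) (J : Ideal A) (f : Fin n → ι → A) :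
    Module.length A (A ⧸ (J ⊔ Ideal.span (Set.range fun i => ∏ s : ι, f i s))) ≤
      ∑ τ : Fin n → ι, Module.length A (A ⧸ (J ⊔ Ideal.span (Set.range fun i => f i (τ i)))) := by
  classical
  induction n generalizing J with
  | zero =>
    rw [Fintype.sum_unique]
    have h0 : (fun i : Fin 0 => ∏ s : ι, f i s) = fun i => f i ((default : Fin 0 → ι) i) :=
      funext fun i => i.elim0
    rw [h0]
  | succ n ih =>
    rw [span_range_succ, ← sup_assoc]
    refine (ih _ _).trans ?_
    rw [← (Fin.consEquiv fun _ : Fin (n + 1) => ι).sum_comp, Fintype.sum_prod_type_right]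
    refine Finset.sum_le_sum fun τ _ => ?_
    rw [sup_right_comm]
    refine (length_prod_le _ _ _).trans (Finset.sum_le_sum fun s _ => le_of_eq ?_)
    refine len_congr ?_
    rw [span_range_succ (fun i => f i ((Fin.consEquiv fun _ : Fin (n + 1) => ι) (s, τ) i)),
      ← sup_assoc, sup_right_comm]
    rfl

/-- Several coordinates, equality; `h` says that each factor of each coordinate is a nonzerodivisor modulo
`J`, any choice of full products in some coordinates and of single factors in the others. -/
theorem length_multi_eq {ι : Type v} [Fintype ι] (n : ℕ) (J : Ideal A) (f : Fin n → ι → A)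
    (h : ∀ (i : Fin n) (s : ι) (y : Fin n → A),
      (∀ j, j ≠ i → y j = ∏ s : ι, f j s ∨ ∃ t, y j = f j t) →
      ∀ c, f i s * c ∈ J ⊔ Ideal.span (y '' {j | j ≠ i}) → c ∈ J ⊔ Ideal.span (y '' {j | j ≠ i})) :
    Module.length A (A ⧸ (J ⊔ Ideal.span (Set.range fun i => ∏ s : ι, f i s))) =
      ∑ τ : Fin n → ι, Module.length A (A ⧸ (J ⊔ Ideal.span (Set.range fun i => f i (τ i)))) := by
  classical
  induction n generalizing J with
  | zero =>
    rw [Fintype.sum_unique]
    have h0 : (fun i : Fin 0 => ∏ s : ι, f i s) = fun i => f i ((default : Fin 0 → ι) i) :=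
      funext fun i => i.elim0
    rw [h0]
  | succ n ih =>
    rw [span_range_succ, ← sup_assoc]
    have himg : ∀ (x : A) (y : Fin n → A) (i : Fin n),
        J ⊔ Ideal.span ((Fin.cons x y : Fin (n + 1) → A) '' {j | j ≠ i.succ}) =
          J ⊔ Ideal.span {x} ⊔ Ideal.span (y '' {j | j ≠ i}) := by
      intro x y i
      rw [sup_assoc, ← Ideal.span_union]
      congr 2
      ext z
      constructor
      · rintro ⟨j, hj, rfl⟩
        revert hj
        refine Fin.cases ?_ (fun j => ?_) j
        · intro _
          left; simp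
        · intro hj
          right
          exact ⟨j, fun h => hj (by simp [h]), by simp⟩
      · rintro (hz | ⟨j, hj, rfl⟩)
        · rw [Set.mem_singleton_iff] at hz
          exact ⟨0, (Fin.succ_ne_zero i).symm, by simp [hz]⟩
        · exact ⟨j.succ, fun h => hj (Fin.succ_injective _ h), by simp⟩
    rw [ih (J ⊔ Ideal.span {∏ s : ι, f 0 s}) (fun i => f i.succ)]
    · rw [← (Fin.consEquiv fun _ : Fin (n + 1) => ι).sum_comp, Fintype.sum_prod_type_right]
      refine Finset.sum_congr rfl fun τ _ => ?_
      rw [sup_right_comm, length_prod_eq]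
      · refine Finset.sum_congr rfl fun s _ => ?_
        refine len_congr ?_
        rw [span_range_succ (fun i => f i ((Fin.consEquiv fun _ : Fin (n + 1) => ι) (s, τ) i)),
          ← sup_assoc, sup_right_comm]
        rfl
      · intro s _ c hc
        have h1 := h 0 s (Fin.cons 0 (fun i => f i.succ (τ i))) (by
          intro j hj
          obtain ⟨j, rfl⟩ := Fin.exists_succ_eq.mpr hj
          right
          exact ⟨τ j, by simp⟩) c
        have h2 : (Fin.cons 0 (fun i => f i.succ (τ i)) : Fin (n + 1) → A) '' {j | j ≠ 0} =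
            Set.range fun i => f i.succ (τ i) := by
          ext z
          constructor
          · rintro ⟨j, hj, rfl⟩
            obtain ⟨j, rfl⟩ := Fin.exists_succ_eq.mpr hj
            exact ⟨j, by simp⟩
          · rintro ⟨j, rfl⟩
            exact ⟨j.succ, Fin.succ_ne_zero j, by simp⟩
        rw [h2] at h1
        exact h1 hc
    · intro i s y hy c hc
      have h1 := h i.succ s (Fin.cons (∏ s : ι, f 0 s) y) (by
        intro j
        refine Fin.cases ?_ (fun j => ?_) j
        · intro _
          left; simp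
        · intro hj
          simpa using hy j (fun h => hj (by simp [h]))) c
      rw [himg] at h1
      exact h1 hc

end K873.Len
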