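import Mathlib.RingTheory.AdicCompletion.Noetherian
import Mathlib.RingTheory.LocalRing.ResidueField.Basic
import Mathlib.RingTheory.Ideal.KrullsHeightTheorem
import Mathlib.Algebra.Ring.Action.Basic

/-!
# The ideal generated by the elements `σ a - a`

For a Noetherian local ring `A` with a ring `k → A` onto the residue field, fixed by an automorphism `σ`, all
`σ a - a` lie in any ideal containing the `σ t - t` for `t` in a generating set of the maximal ideal.
-/

set_option autoImplicit false
universe u v w

open IsLocalRing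

namespace K873.ActJ

theorem smul_mem_maximalIdeal {A : Type u} [CommRing A] [IsLocalRing A] {G : Type v} [Group G]
    [MulSemiringAction G A] (σ : G) {a : A} (ha : a ∈ maximalIdeal A) :
    σ • a ∈ maximalIdeal A := by
  rw [mem_maximalIdeal, mem_nonunits_iff] at ha ⊢
  intro h
  apply ha
  have := h.map (MulSemiringAction.toRingHom G A σ⁻¹)
  simpa using this

theorem smul_mem_maximalIdeal_pow {A : Type u} [CommRing A] [IsLocalRing A] {G : Type v} [Group G]
    [MulSemiringAction G A] (σ : G) (N : ℕ) {a : A} (ha : a ∈ maximalIdeal A ^ N) :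
    σ • a ∈ maximalIdeal A ^ N := by
  have h : (maximalIdeal A ^ N).map (MulSemiringAction.toRingHom G A σ) ≤ maximalIdeal A ^ N := by
    rw [Ideal.map_pow]
    refine Ideal.pow_right_mono ?_ N
    rw [Ideal.map_le_iff_le_comap]
    intro a ha
    exact smul_mem_maximalIdeal σ ha
  exact h (Ideal.mem_map_of_mem _ ha)

theorem mem_of_forall_sup_pow {A : Type u} [CommRing A] [IsLocalRing A] [IsNoetherianRing A]
    (J : Ideal A) {a : A} (h : ∀ N : ℕ, a ∈ J ⊔ maximalIdeal A ^ N) : a ∈ J := by
  have hH : IsHausdorff (maximalIdeal A) (A ⧸ J) :=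
    IsHausdorff.of_isLocalRing _ _ (Ideal.IsPrime.ne_top')
  have h0 : (Submodule.Quotient.mk a : A ⧸ J) = 0 := by
    refine hH.haus _ fun N => ?_
    rw [SModEq.zero]
    obtain ⟨j, hj, z, hz, hjz⟩ := Submodule.mem_sup.mp (h N)
    have h1 : (Submodule.Quotient.mk a : A ⧸ J) = z • (Submodule.Quotient.mk 1 : A ⧸ J) := by
      rw [← Submodule.Quotient.mk_smul, smul_eq_mul, mul_one, Submodule.Quotient.eq, ← hjz,
        add_sub_cancel_right]
      exact hj
    rw [h1]
    exact Submodule.smul_mem_smul hz trivial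
  exact (Submodule.Quotient.mk_eq_zero J).mp h0

/-- Approximation by elements of a subring. -/
theorem exists_approx {A : Type u} [CommRing A] [IsLocalRing A] (k : Type w) [CommRing k] [Algebra k A]
    (hk : Function.Surjective (residue A ∘ algebraMap k A)) (T : Set A)
    (hT : maximalIdeal A ≤ Ideal.span T) (P : A → Prop) (hPk : ∀ c : k, P (algebraMap k A c))
    (hPT : ∀ t ∈ T, P t) (hadd : ∀ a b, P a → P b → P (a + b)) (hmul : ∀ a b, P a → P b → P (a * b))
    (hTm : T ⊆ maximalIdeal A) (N : ℕ) : ∀ a : A, ∃ b : A, P b ∧ a - b ∈ maximalIdeal A ^ N := by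
  induction N with
  | zero =>
    intro a
    refine ⟨0, ?_, by simp⟩
    simpa using hPk 0
  | succ N ih =>
    intro a
    obtain ⟨c, hc⟩ := hk (residue A a)
    have hac : a - algebraMap k A c ∈ Ideal.span T := by
      apply hT
      rw [← residue_eq_zero_iff, map_sub, sub_eq_zero, ← hc]
      rfl
    have key : ∀ x ∈ Ideal.span T, ∀ r : A, ∃ b : A, P b ∧ r * x - b ∈ maximalIdeal A ^ (N + 1) := by
      intro x hx
      refine Submodule.span_induction ?_ ?_ ?_ ?_ hx
      · intro t ht r
        obtain ⟨b, hb, hrb⟩ := ih r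
        refine ⟨b * t, hmul _ _ hb (hPT t ht), ?_⟩
        rw [← sub_mul, pow_succ]
        exact Ideal.mul_mem_mul hrb (hTm ht)
      · intro r
        refine ⟨0, ?_, by simp⟩
        simpa using hPk 0
      · intro x y _ _ hx hy r
        obtain ⟨b, hb, hrb⟩ := hx r
        obtain ⟨b', hb', hrb'⟩ := hy r
        refine ⟨b + b', hadd _ _ hb hb', ?_⟩
        have : r * (x + y) - (b + b') = (r * x - b) + (r * y - b') := by ring
        rw [this]
        exact Ideal.add_mem _ hrb hrb'
      · intro s x _ hx r
        obtain ⟨b, hb, hrb⟩ := hx (r * s)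
        refine ⟨b, hb, ?_⟩
        rw [smul_eq_mul, ← mul_assoc]
        exact hrb
    obtain ⟨b, hb, hab⟩ := key _ hac 1
    refine ⟨b + algebraMap k A c, hadd _ _ hb (hPk c), ?_⟩
    have : a - (b + algebraMap k A c) = 1 * (a - algebraMap k A c) - b := by ring
    rw [this]
    exact hab

theorem smul_sub_mem {A : Type u} [CommRing A] [IsLocalRing A] [IsNoetherianRing A] (k : Type w)
    [CommRing k] [Algebra k A] (hk : Function.Surjective (residue A ∘ algebraMap k A))
    {G : Type v} [Group G] [MulSemiringAction G A] (σ : G)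
    (hσk : ∀ c : k, σ • algebraMap k A c = algebraMap k A c) (T : Set A)
    (hT : Ideal.span T = maximalIdeal A) (J : Ideal A) (hJ : ∀ t ∈ T, σ • t - t ∈ J) (a : A) :
    σ • a - a ∈ J := by
  refine mem_of_forall_sup_pow J fun N => ?_
  obtain ⟨b, hb, hab⟩ := exists_approx k hk T hT.ge (fun a => σ • a - a ∈ J)
    (fun c => by rw [hσk, sub_self]; exact zero_mem _) hJ
    (fun a b ha hb => by
      have : σ • (a + b) - (a + b) = (σ • a - a) + (σ • b - b) := by rw [smul_add]; ring
      rw [this]
      exact Ideal.add_mem _ ha hb)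
    (fun a b ha hb => by
      have : σ • (a * b) - a * b = (σ • a) * (σ • b - b) + b * (σ • a - a) := by rw [smul_mul']; ring
      rw [this]
      exact Ideal.add_mem _ (Ideal.mul_mem_left _ _ hb) (Ideal.mul_mem_left _ _ ha))
    (fun t ht => hT ▸ Ideal.subset_span ht) N a
  have : σ • a - a = (σ • b - b) + (σ • (a - b) - (a - b)) := by rw [smul_sub]; ring
  rw [this]
  refine Ideal.add_mem _ (le_sup_left (a := J) hb) (le_sup_right (a := J) ?_)
  exact Ideal.sub_mem _ (smul_mem_maximalIdeal_pow σ N hab) hab

end K873.ActJ
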