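import Groth.Agent.WildQuot.K873.Inv
import Mathlib.LinearAlgebra.Matrix.ToLinearEquiv
import Mathlib.LinearAlgebra.LinearIndependent.Basic
import Mathlib.LinearAlgebra.Matrix.Determinant.Basic
import Mathlib.FieldTheory.Galois.IsGaloisGroup
import Mathlib.RingTheory.Ideal.KrullsHeightTheorem

/-!
# The discriminant argument

If `A` is a local Noetherian ring of dimension at least two, and a nontrivial finite group `G` acts on `A`,
trivially on the residue field and with trivial inertia at all nonmaximal primes, then `A` is not free over `A^G`.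
-/

set_option autoImplicit false
universe u v w

open IsLocalRing Module

namespace K873.Disc

/-- The determinant `det (σ b_τ)` does not lie in a prime with trivial inertia. -/
theorem det_notMem {A : Type u} [CommRing A] {G : Type w} [Group G] [Fintype G] [DecidableEq G]
    [MulSemiringAction G A] {B : Type v} [CommRing B] [Algebra B A] [SMulCommClass G B A]
    (b : Basis G B A) (P : Ideal A) [P.IsPrime] (hP : P.inertia G = ⊥) :
    (Matrix.of fun σ τ : G => σ • b τ).det ∉ P := by
  intro hdet
  let K := FractionRing (A ⧸ P)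
  let π : A →+* K := (algebraMap (A ⧸ P) K).comp (Ideal.Quotient.mk P)
  have hπ : ∀ a, π a = 0 ↔ a ∈ P := by
    intro a
    rw [← Ideal.Quotient.eq_zero_iff_mem]
    exact map_eq_zero_iff _ (IsFractionRing.injective (A ⧸ P) K)
  have h1 : ((Matrix.of fun σ τ : G => σ • b τ).map π).det = 0 := by
    have := RingHom.map_det π (Matrix.of fun σ τ : G => σ • b τ)
    rw [(hπ _).mpr hdet] at this
    exact this.symm
  obtain ⟨c, hc0, hc⟩ := Matrix.exists_vecMul_eq_zero_iff.mpr h1
  have h2 : ∀ τ : G, ∑ σ : G, c σ * π (σ • b τ) = 0 := fun τ => congrFun hc τ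
  have h3 : ∀ a : A, ∑ σ : G, c σ * π (σ • a) = 0 := by
    intro a
    rw [← b.sum_repr a]
    have h4 : ∀ σ : G, c σ * π (σ • ∑ τ : G, b.repr a τ • b τ) =
        ∑ τ : G, π (algebraMap B A (b.repr a τ)) * (c σ * π (σ • b τ)) := by
      intro σ
      rw [Finset.smul_sum, map_sum, Finset.mul_sum]
      refine Finset.sum_congr rfl fun τ _ => ?_
      rw [smul_comm, Algebra.smul_def, map_mul]
      ring
    rw [Finset.sum_congr rfl fun σ _ => h4 σ, Finset.sum_comm]
    refine Finset.sum_eq_zero fun τ _ => ?_
    rw [← Finset.mul_sum, h2, mul_zero]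
  let f : G → (A →* K) := fun σ =>
    π.toMonoidHom.comp (MulSemiringAction.toRingHom G A σ).toMonoidHom
  have hf : Function.Injective f := by
    intro σ τ h
    have h5 : ∀ a, π (σ • a) = π (τ • a) := fun a => congrArg (fun g : A →* K => g a) h
    have h6 : σ * τ⁻¹ ∈ P.inertia G := by
      intro a
      change (σ * τ⁻¹) • a - a ∈ P
      rw [← hπ, map_sub, sub_eq_zero, mul_smul, h5, smul_inv_smul]
    rw [hP, Subgroup.mem_bot] at h6
    exact mul_inv_eq_one.mp h6
  have hli := (linearIndependent_monoidHom A K).comp f hf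
  rw [Fintype.linearIndependent_iff] at hli
  apply hc0
  funext σ
  refine hli c ?_ σ
  funext a
  rw [Finset.sum_apply]
  exact h3 a

/-- If `G` is nontrivial and acts trivially modulo the maximal ideal, the determinant lies in the
maximal ideal. -/
theorem det_mem {A : Type u} [CommRing A] [IsLocalRing A] {G : Type w} [Group G] [Fintype G]
    [DecidableEq G] [Nontrivial G] [MulSemiringAction G A] (b : G → A)
    (hres : ∀ (σ : G) (a : A), σ • a - a ∈ maximalIdeal A) :
    (Matrix.of fun σ τ : G => σ • b τ).det ∈ maximalIdeal A := by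
  rw [← residue_eq_zero_iff, RingHom.map_det]
  obtain ⟨σ, hσ⟩ := exists_ne (1 : G)
  refine Matrix.det_zero_of_row_eq hσ ?_
  funext τ
  change residue A (σ • b τ) = residue A ((1 : G) • b τ)
  rw [one_smul, ← sub_eq_zero, ← map_sub, residue_eq_zero_iff]
  exact hres σ _

theorem false_of_basis {A : Type u} [CommRing A] [IsLocalRing A] [IsNoetherianRing A]
    (hdim : 2 ≤ ringKrullDim A) {G : Type w} [Group G] [Fintype G] [DecidableEq G] [Nontrivial G]
    [MulSemiringAction G A] (hres : ∀ (σ : G) (a : A), σ • a - a ∈ maximalIdeal A)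
    (hram : ∀ P : Ideal A, P.IsPrime → P ≠ maximalIdeal A → P.inertia G = ⊥)
    {B : Type v} [CommRing B] [Algebra B A] [SMulCommClass G B A] (b : Basis G B A) : False := by
  set δ := (Matrix.of fun σ τ : G => σ • b τ).det with hδ
  have h1 : δ ∈ maximalIdeal A := det_mem b hres
  have h2 : Ideal.span {δ} ≤ maximalIdeal A := (Ideal.span_singleton_le_iff_mem _).mpr h1
  obtain ⟨P, hP, hPm⟩ := Ideal.exists_minimalPrimes_le h2
  have hPp : P.IsPrime := hP.1.1
  have h3 : P.height ≤ 1 := by
    have : (Ideal.span {δ}).IsPrincipal := ⟨⟨δ, rfl⟩⟩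
    exact Ideal.height_le_one_of_isPrincipal_of_mem_minimalPrimes _ P hP
  have h4 : P ≠ maximalIdeal A := by
    rintro rfl
    rw [← maximalIdeal_height_eq_ringKrullDim] at hdim
    have h5 : (2 : ℕ∞) ≤ (maximalIdeal A).height := WithBot.coe_le_coe.mp hdim
    have h6 : (2 : ℕ∞) ≤ 1 := h5.trans h3
    exact absurd h6 (by decide)
  exact det_notMem b P (hram P hPp h4) (hP.1.2 (Ideal.mem_span_singleton_self _))

/-- A group acting on `A` fixing a coefficient field acts trivially on the residue field. -/
theorem smul_sub_mem_maximalIdeal {A : Type u} [CommRing A] [IsLocalRing A] {k : Type v} [CommRing k]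
    [Algebra k A] (hk : Function.Surjective (residue A ∘ algebraMap k A)) {G : Type w} [Group G]
    [MulSemiringAction G A] (hGk : ∀ (σ : G) (c : k), σ • algebraMap k A c = algebraMap k A c)
    (σ : G) (a : A) : σ • a - a ∈ maximalIdeal A := by
  obtain ⟨c, hc⟩ := hk (residue A a)
  have h1 : a - algebraMap k A c ∈ maximalIdeal A := by
    rw [← residue_eq_zero_iff, map_sub, ← hc]
    simp
  have h2 : σ • a - a = σ • (a - algebraMap k A c) - (a - algebraMap k A c) := by
    rw [smul_sub, hGk]
    ring
  rw [h2]
  exact Ideal.sub_mem _ (K873.ActJ.smul_mem_maximalIdeal σ h1) h1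

/-- The action is faithful if the inertia of `⊥` is trivial. -/
theorem faithfulSMul_of_inertia {A : Type u} [CommRing A] {G : Type w} [Group G]
    [MulSemiringAction G A] (h : (⊥ : Ideal A).inertia G = ⊥) : FaithfulSMul G A := by
  refine ⟨fun {σ τ} hst => ?_⟩
  have h1 : σ * τ⁻¹ ∈ (⊥ : Ideal A).inertia G := by
    intro a
    change (σ * τ⁻¹) • a - a ∈ (⊥ : Ideal A)
    rw [mul_smul, hst, smul_inv_smul, sub_self]
    exact zero_mem _
  rw [h, Subgroup.mem_bot] at h1
  exact mul_inv_eq_one.mp h1

/-- `A` is not free over `A^G`. -/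
theorem not_free {A : Type u} [CommRing A] [IsLocalRing A] [IsNoetherianRing A] [IsDomain A]
    (hdim : 2 ≤ ringKrullDim A) {G : Type w} [Group G] [Finite G] [Nontrivial G]
    [MulSemiringAction G A] (hres : ∀ (σ : G) (a : A), σ • a - a ∈ maximalIdeal A)
    (hram : ∀ P : Ideal A, P.IsPrime → P ≠ maximalIdeal A → P.inertia G = ⊥)
    (hfin : Module.Finite (FixedPoints.subring A G) A)
    (hfree : Module.Free (FixedPoints.subring A G) A) : False := by
  classical
  have := Fintype.ofFinite G
  have hbot : (⊥ : Ideal A) ≠ maximalIdeal A := by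
    intro h
    rw [← maximalIdeal_height_eq_ringKrullDim, ← h, Ideal.height_bot] at hdim
    exact absurd hdim (by decide)
  have hfaith := faithfulSMul_of_inertia (hram ⊥ Ideal.isPrime_bot hbot)
  have hinv := K873.Inv.isInvariant A G
  have hcomm := K873.Inv.smulCommClass A G
  have hgal : IsGaloisGroup G (FixedPoints.subring A G) A := ⟨hfaith, hcomm, hinv⟩
  have : FaithfulSMul (FixedPoints.subring A G) A :=
    (faithfulSMul_iff_algebraMap_injective _ _).mpr Subtype.val_injective
  have hcard := IsGaloisGroup.card_eq_finrank' G (FixedPoints.subring A G) A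
  let b := Module.finBasis (FixedPoints.subring A G) A
  have e : Fin (Module.finrank (FixedPoints.subring A G) A) ≃ G := by
    rw [← hcard, Nat.card_eq_fintype_card]
    exact (Fintype.equivFin G).symm
  exact false_of_basis hdim hres hram (b.reindex e)

end K873.Disc
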