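import Groth.Agent.CalgB.CM3
import Groth.Agent.Ega4A.RegCM
import Mathlib.RingTheory.KrullDimension.Zero
import Mathlib.RingTheory.KrullDimension.Basic

/-!
# Systems of parameters of Cohen–Macaulay local rings are regular sequences
-/

set_option autoImplicit false
universe u

open IsLocalRing RingTheory.Sequence

namespace K873.Sop

theorem ringKrullDim_quotient_le_zero {A : Type u} [CommRing A] [IsLocalRing A] (I : Ideal A)
    (h : maximalIdeal A ≤ I.radical) : ringKrullDim (A ⧸ I) ≤ 0 := by
  rw [ringKrullDim_quotient]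
  have : Subsingleton (PrimeSpectrum.zeroLocus (R := A) I) := by
    refine ⟨fun p q => ?_⟩
    have key : ∀ p : PrimeSpectrum.zeroLocus (R := A) I, p.1.asIdeal = maximalIdeal A := by
      intro p
      refine le_antisymm (le_maximalIdeal p.1.2.ne_top) (h.trans ?_)
      exact (Ideal.IsPrime.radical_le_iff p.1.2).mpr p.2
    exact Subtype.ext (PrimeSpectrum.ext ((key p).trans (key q).symm))
  exact Order.krullDim_nonpos_of_subsingleton

theorem isWeaklyRegular_of_cm (R : Type u) [CommRing R] [hR : LocCoh.IsCohenMacaulayLocalRing R] (rs : List R)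
    (hm : ∀ a ∈ rs, a ∈ maximalIdeal R) (hlen : (rs.length : WithBot ℕ∞) ≤ ringKrullDim R)
    (hq : maximalIdeal R ≤ (Ideal.ofList rs).radical) : IsWeaklyRegular R rs := by
  have e : (R ⧸ Ideal.ofList rs • (⊤ : Submodule R R)) ≃ₗ[R] R ⧸ Ideal.ofList rs :=
    Submodule.quotEquivOfEq _ _ (by rw [smul_eq_mul, Ideal.mul_top])
  refine Groth.Agent.CalgB.CM3.isWeaklyRegular_of_supportDim_add_length_le
    hR.supportDim_eq_depth rs hm ?_
  rw [Module.supportDim_eq_of_equiv e, Module.supportDim_quotient_eq_ringKrullDim,
    Module.supportDim_self_eq_ringKrullDim]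
  calc ringKrullDim (R ⧸ Ideal.ofList rs) + (rs.length : WithBot ℕ∞) ≤ 0 + ringKrullDim R :=
        add_le_add (ringKrullDim_quotient_le_zero _ hq) hlen
    _ = ringKrullDim R := zero_add _

/-- In a regular local ring of dimension `n`, `n` elements generating an `m`-primary ideal: each of them is a
nonzerodivisor modulo the others. -/
theorem mem_of_mul_mem {A : Type u} [CommRing A] [IsRegularLocalRing A] {n : ℕ}
    (hn : ringKrullDim A = n) (i : Fin n) (y : Fin n → A) (hy : ∀ j, j ≠ i → y j ∈ maximalIdeal A)
    {a : A} (ha : a ∈ maximalIdeal A)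
    (hrad : maximalIdeal A ≤ (Ideal.span (y '' {j | j ≠ i}) ⊔ Ideal.span {a}).radical)
    {c : A} (hc : a * c ∈ Ideal.span (y '' {j | j ≠ i})) : c ∈ Ideal.span (y '' {j | j ≠ i}) := by
  classical
  have hCM : LocCoh.IsCohenMacaulayLocalRing A :=
    Groth.Agent.Ega4A.RegCM.isCohenMacaulayLocalRing_of_isRegularLocalRing A
  let l : List A := (Finset.univ.erase i).toList.map y
  have hl : Ideal.ofList l = Ideal.span (y '' {j | j ≠ i}) := by
    rw [Ideal.ofList]
    congr 1
    ext x
    simp [l]
  have hreg : IsWeaklyRegular A (l ++ [a]) := by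
    refine isWeaklyRegular_of_cm A _ ?_ ?_ ?_
    · intro x hx
      rw [List.mem_append] at hx
      rcases hx with hx | hx
      · simp only [l, List.mem_map, Finset.mem_toList, Finset.mem_erase] at hx
        obtain ⟨j, hj, rfl⟩ := hx
        exact hy j hj.1
      · rw [List.mem_singleton] at hx
        rwa [hx]
    · rw [hn]
      have : (l ++ [a]).length = n := by
        simp only [l, List.length_append, List.length_map, Finset.length_toList, List.length_singleton,
          Finset.card_erase_of_mem (Finset.mem_univ i), Finset.card_univ, Fintype.card_fin]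
        have := i.2
        omega
      rw [this]
    · rw [Ideal.ofList_append, hl, Ideal.ofList_singleton]
      exact hrad
  rw [isWeaklyRegular_append_iff, isWeaklyRegular_singleton_iff] at hreg
  have h2 := hreg.2
  have h3 : (Submodule.Quotient.mk c : A ⧸ Ideal.ofList l • (⊤ : Submodule A A)) = 0 := by
    apply h2
    simp only [smul_zero]
    rw [← Submodule.Quotient.mk_smul, Submodule.Quotient.mk_eq_zero, smul_eq_mul, smul_eq_mul,
      Ideal.mul_top, hl]
    exact hc
  rw [Submodule.Quotient.mk_eq_zero, smul_eq_mul, Ideal.mul_top, hl] at h3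
  exact h3

end K873.Sop
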