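import Groth.Agent.CalgB.PowField
import Groth.Agent.CalgA.FinitePow
import Groth.Agent.Ega41.MvPS

/-!
# Maps from power series rings to complete local rings
-/

set_option autoImplicit false
universe u v w

open IsLocalRing

namespace K873.PS

open Groth.Agent.Ega41.PowEval MvPowerSeries

theorem sub_aeval_mem {A : Type u} [CommRing A] (I : Ideal A) {k : Type v} [CommRing k]
    [Algebra k A] {σ : Type w} [Finite σ] (x : σ → A) (hx : ∀ i, x i ∈ I)
    (φ : MvPowerSeries σ k →ₐ[k] A) (hφ : ∀ i, φ (X i) = x i) (n : ℕ) (f : MvPowerSeries σ k) :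
    φ f - MvPolynomial.aeval x (truncTotal n f) ∈ I ^ n := by
  have h1 : φ ((truncTotal n f : MvPolynomial σ k) : MvPowerSeries σ k) =
      MvPolynomial.aeval x (truncTotal n f) := by
    have : φ.comp (MvPolynomial.coeToMvPowerSeries.algHom k) = MvPolynomial.aeval x := by
      ext i
      simp [hφ]
    have h2 := congrArg (fun ψ => ψ (truncTotal n f)) this
    simpa using h2
  rw [← h1, ← map_sub]
  have h2 : (Groth.Agent.Ega41.MvPS.varIdeal σ k ^ n).map φ.toRingHom ≤ I ^ n := by
    rw [Ideal.map_pow]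
    refine Ideal.pow_right_mono ?_ n
    rw [Ideal.map_span, Ideal.span_le]
    rintro _ ⟨_, ⟨i, rfl⟩, rfl⟩
    simpa [hφ] using hx i
  exact h2 (Ideal.mem_map_of_mem φ.toRingHom (Groth.Agent.Ega41.MvPS.sub_truncTotal_mem n f))

theorem eq_powEval {A : Type u} [CommRing A] (I : Ideal A) [IsAdicComplete I A] {k : Type v} [CommRing k]
    [Algebra k A] {σ : Type w} [Finite σ] (x : σ → A) (hx : ∀ i, x i ∈ I)
    (φ : MvPowerSeries σ k →ₐ[k] A) (hφ : ∀ i, φ (X i) = x i) : φ = powEval I x hx := by
  ext f
  rw [IsHausdorff.eq_iff_smodEq (I := I)]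
  intro n
  rw [SModEq.sub_mem, smul_eq_mul, Ideal.mul_top]
  have h1 := sub_aeval_mem I x hx φ hφ n f
  have h2 := mk_powEval (R := k) I x hx n f
  rw [Ideal.Quotient.eq] at h2
  have : φ f - powEval I x hx f = (φ f - MvPolynomial.aeval x (truncTotal n f)) -
    (powEval I x hx f - MvPolynomial.aeval x (truncTotal n f)) := by ring
  rw [this]
  exact Ideal.sub_mem _ h1 h2

/-- A `k`-algebra map from a power series ring sending the variables to a system generating an `m`-primary
ideal is finite. -/
theorem finite {A : Type u} [CommRing A] [IsLocalRing A] [IsNoetherianRing A]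
    [IsAdicComplete (maximalIdeal A) A] {k : Type v} [Field k] [Algebra k A]
    (hk : Function.Surjective (residue A ∘ algebraMap k A)) {n : ℕ} (x : Fin n → A)
    (hx : ∀ i, x i ∈ maximalIdeal A)
    (hrad : maximalIdeal A ≤ (Ideal.span (Set.range x)).radical)
    (φ : MvPowerSeries (Fin n) k →ₐ[k] A) (hφ : ∀ i, φ (X i) = x i) :
    φ.toRingHom.Finite := by
  rw [eq_powEval (maximalIdeal A) x hx φ hφ]
  have hbot : maximalIdeal k = ⊥ := IsLocalRing.maximalIdeal_eq_bot
  have : IsPrecomplete (maximalIdeal k) k := by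
    rw [hbot]
    infer_instance
  refine Groth.Agent.CalgA.FinitePow.finite_powEval hk ?_ x hx ?_
  · rw [hbot, Ideal.map_bot]
    exact bot_le
  · rw [hbot, Ideal.map_bot, bot_sup_eq]
    exact hrad

/-- In dimension `n`, the map is injective. -/
theorem injective {A : Type u} [CommRing A] [IsLocalRing A] [IsNoetherianRing A]
    [IsAdicComplete (maximalIdeal A) A] {k : Type v} [Field k] [Algebra k A]
    (hk : Function.Surjective (residue A ∘ algebraMap k A)) {n : ℕ} (hn : ringKrullDim A = n)
    (x : Fin n → A) (hx : ∀ i, x i ∈ maximalIdeal A)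
    (hrad : maximalIdeal A ≤ (Ideal.span (Set.range x)).radical)
    (φ : MvPowerSeries (Fin n) k →ₐ[k] A) (hφ : ∀ i, φ (X i) = x i) :
    Function.Injective φ := by
  have : IsDomain (MvPowerSeries (Fin n) k) := NoZeroDivisors.to_isDomain _
  exact Groth.Agent.CalgA.FinitePow.injective_of_finite_of_dim φ.toRingHom
    (finite hk x hx hrad φ hφ) n (Groth.Agent.CalgB.PowField.ringKrullDim_eq k n).le hn.ge

end K873.PS
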