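import Groth.Agent.WildQuot.K873.InGen
import Mathlib.FieldTheory.PurelyInseparable.PerfectClosure

/-!
# The separable part of a normal extension of a regular local ring

`A` normal local domain finite over a regular local ring `R` of dimension at least two, of characteristic `p`, with
the same residue field; a group of order `p` acts on `A` over `R`, ramified precisely at the origin.  Then some
invariant element has no `p ^ e`-th power in `R`.
-/

set_option autoImplicit false
universe u v w

open IsLocalRing

namespace K873.SepInv

/-- A subring of a normal domain containing all quotients of its elements that lie in the big ring is normal. -/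
theorem isIntegrallyClosed_of_saturated {B : Type v} {A : Type u} [CommRing A] [CommRing B] [IsDomain B]
    [IsDomain A] [IsIntegrallyClosed A] (j : B →+* A) (hj : Function.Injective j)
    (hsat : ∀ (a : A) (b c : B), c ≠ 0 → a * j c = j b → a ∈ Set.range j) :
    IsIntegrallyClosed B := by
  let K := FractionRing B
  let L := FractionRing A
  have hinj : Function.Injective ((algebraMap A L).comp j) :=
    (IsFractionRing.injective A L).comp hj
  let f : K →+* L := IsFractionRing.lift (A := B) hinj
  have hf : ∀ b : B, f (algebraMap B K b) = algebraMap A L (j b) := fun b =>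
    IsFractionRing.lift_algebraMap hinj b
  rw [isIntegrallyClosed_iff K]
  intro x hx
  have hfx : IsIntegral A (f x) := by
    obtain ⟨P, hP, hPx⟩ := hx
    refine ⟨P.map j, hP.map _, ?_⟩
    rw [Polynomial.eval₂_map]
    have : (algebraMap A L).comp j = f.comp (algebraMap B K) := by
      ext b; exact (hf b).symm
    rw [this, ← Polynomial.hom_eval₂, hPx, map_zero]
  obtain ⟨a, ha⟩ := IsIntegrallyClosed.isIntegral_iff.mp hfx
  obtain ⟨b, c, hc, rfl⟩ := IsFractionRing.div_surjective B x
  have hc0 : c ≠ 0 := nonZeroDivisors.ne_zero hc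
  have h1 : a * j c = j b := by
    apply IsFractionRing.injective A L
    rw [map_mul, ha, ← hf, ← hf, ← map_mul]
    congr 1
    rw [div_mul_cancel₀]
    exact IsFractionRing.to_map_ne_zero_of_mem_nonZeroDivisors hc
  obtain ⟨a', ha'⟩ := hsat a b c hc0 h1
  refine ⟨a', f.injective ?_⟩
  rw [hf, ha']
  exact ha

section

variable (R : Type u) [CommRing R] [IsDomain R] [IsIntegrallyClosed R]
  (A : Type v) [CommRing A] [IsDomain A] [Algebra R A] [FaithfulSMul R A]

attribute [local instance] FractionRing.liftAlgebra FractionRing.isScalarTower_liftAlgebra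

/-- The elements of `A` separable over the fraction field of `R`. -/
noncomputable def sepPart : Subalgebra R A :=
  ((separableClosure (FractionRing R) (FractionRing A)).toSubalgebra.restrictScalars R).comap
    (IsScalarTower.toAlgHom R A (FractionRing A))

omit [IsIntegrallyClosed R] in
theorem mem_sepPart {a : A} : a ∈ sepPart R A ↔
    IsSeparable (FractionRing R) (algebraMap A (FractionRing A) a) := Iff.rfl

theorem mem_sepPart_iff [Algebra.IsIntegral R A] {a : A} : a ∈ sepPart R A ↔
    ((minpoly R a).map (algebraMap R (FractionRing R))).Separable := by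
  rw [mem_sepPart, IsSeparable, minpoly.isIntegrallyClosed_eq_field_fractions
    (FractionRing R) (FractionRing A) (Algebra.IsIntegral.isIntegral (R := R) a)]

theorem smul_mem [Algebra.IsIntegral R A] {G : Type w} [Group G] [MulSemiringAction G A]
    [SMulCommClass G R A] (g : G) {a : A} (ha : a ∈ sepPart R A) : g • a ∈ sepPart R A := by
  rw [mem_sepPart_iff] at ha ⊢
  have h : minpoly R (g • a) = minpoly R a :=
    minpoly.algEquiv_eq (MulSemiringAction.toAlgEquiv R A g) a
  rwa [h]

omit [IsIntegrallyClosed R] in
theorem saturated {a b c : A} (hb : b ∈ sepPart R A) (hc : c ∈ sepPart R A) (hc0 : c ≠ 0)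
    (h : a * c = b) : a ∈ sepPart R A := by
  have h1 : algebraMap A (FractionRing A) a =
      algebraMap A (FractionRing A) b / algebraMap A (FractionRing A) c := by
    rw [eq_div_iff, ← map_mul, h]
    rwa [Ne, IsFractionRing.to_map_eq_zero_iff]
  change algebraMap A (FractionRing A) a ∈ separableClosure (FractionRing R) (FractionRing A)
  rw [h1]
  exact (separableClosure (FractionRing R) (FractionRing A)).div_mem hb hc

omit [IsIntegrallyClosed R] in
theorem exists_pow_mem (p : ℕ) [Fact p.Prime] [CharP A p] [Algebra.IsIntegral R A] (a : A) :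
    ∃ e : ℕ, a ^ p ^ e ∈ sepPart R A := by
  have hcharR : CharP R p := (algebraMap R A).charP (FaithfulSMul.algebraMap_injective R A) p
  have hcharK : CharP (FractionRing R) p :=
    charP_of_injective_algebraMap (IsFractionRing.injective R (FractionRing R)) p
  have hexp : ExpChar (FractionRing R) p := ExpChar.prime Fact.out
  have halg : Algebra.IsAlgebraic (FractionRing R) (FractionRing A) := by
    have := (IsFractionRing.isAlgebraic_iff' R A (FractionRing A)).1 inferInstance
    exact IsFractionRing.comap_isAlgebraic_iff.mp this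
  have hexp2 : ExpChar (separableClosure (FractionRing R) (FractionRing A)) p :=
    expChar_of_injective_algebraMap (algebraMap (FractionRing R) _).injective p
  obtain ⟨e, b, hb⟩ := IsPurelyInseparable.pow_mem
    (separableClosure (FractionRing R) (FractionRing A)) p (algebraMap A (FractionRing A) a)
  refine ⟨e, ?_⟩
  change algebraMap A (FractionRing A) (a ^ p ^ e) ∈ separableClosure (FractionRing R) (FractionRing A)
  rw [map_pow, ← hb]
  exact b.2

theorem mem_range_of_pow (p : ℕ) [Fact p.Prime] [CharP A p] [Algebra.IsIntegral R A] {a : A}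
    (ha : a ∈ sepPart R A) (e : ℕ) (he : a ^ p ^ e ∈ Set.range (algebraMap R A)) :
    a ∈ Set.range (algebraMap R A) := by
  have hcharR : CharP R p := (algebraMap R A).charP (FaithfulSMul.algebraMap_injective R A) p
  have hcharK : CharP (FractionRing R) p :=
    charP_of_injective_algebraMap (IsFractionRing.injective R (FractionRing R)) p
  have hexp : ExpChar (FractionRing R) p := ExpChar.prime Fact.out
  have h1 : algebraMap A (FractionRing A) a ∈ perfectClosure (FractionRing R) (FractionRing A) := by
    rw [mem_perfectClosure_iff_pow_mem p]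
    obtain ⟨r, hr⟩ := he
    refine ⟨e, algebraMap R (FractionRing R) r, ?_⟩
    rw [← map_pow, ← hr, ← IsScalarTower.algebraMap_apply, ← IsScalarTower.algebraMap_apply]
  have h2 : algebraMap A (FractionRing A) a ∈
      separableClosure (FractionRing R) (FractionRing A) ⊓
        perfectClosure (FractionRing R) (FractionRing A) := ⟨ha, h1⟩
  rw [separableClosure_inf_perfectClosure, IntermediateField.mem_bot] at h2
  obtain ⟨y, hy⟩ := h2
  have h3 : IsIntegral R y := by
    have h4 : IsIntegral R (algebraMap (FractionRing R) (FractionRing A) y) := by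
      rw [hy]
      exact (Algebra.IsIntegral.isIntegral a).map (IsScalarTower.toAlgHom R A (FractionRing A))
    exact (isIntegral_algebraMap_iff (algebraMap (FractionRing R) (FractionRing A)).injective).mp h4
  obtain ⟨r, hr⟩ := IsIntegrallyClosed.isIntegral_iff.mp h3
  refine ⟨r, IsFractionRing.injective A (FractionRing A) ?_⟩
  rw [← hy, ← hr, ← IsScalarTower.algebraMap_apply, ← IsScalarTower.algebraMap_apply]

/-- The group acts on the separable part. -/
@[instance_reducible]
def act [Algebra.IsIntegral R A] (G : Type w) [Group G] [MulSemiringAction G A]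
    [SMulCommClass G R A] : MulSemiringAction G (sepPart R A) where
  smul g a := ⟨g • (a : A), smul_mem R A g a.2⟩
  one_smul a := Subtype.ext (one_smul G (a : A))
  mul_smul g h a := Subtype.ext (mul_smul g h (a : A))
  smul_zero g := Subtype.ext (smul_zero (A := A) g)
  smul_add g a b := Subtype.ext (smul_add g (a : A) (b : A))
  smul_one g := Subtype.ext (smul_one g)
  smul_mul g a b := Subtype.ext (smul_mul' g (a : A) (b : A))

end

theorem main {R : Type u} [CommRing R] [IsRegularLocalRing R] (hdim : 2 ≤ ringKrullDim R)
    {A : Type v} [CommRing A] [IsDomain A] [IsIntegrallyClosed A] [IsLocalRing A]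
    [Algebra R A] [Module.Finite R A] (hinj : Function.Injective (algebraMap R A))
    (hres : Function.Surjective (IsLocalRing.residue A ∘ algebraMap R A))
    (p : ℕ) [Fact p.Prime] [CharP A p]
    {G : Type w} [Group G] [MulSemiringAction G A] [SMulCommClass G R A] (hcard : Nat.card G = p)
    (hram : ∀ P : Ideal A, P.IsPrime → P ≠ maximalIdeal A → P.inertia G = ⊥) :
    ∃ y : A, (∀ σ : G, σ • y = y) ∧ ∀ e : ℕ, y ^ p ^ e ∉ Set.range (algebraMap R A) := by
  by_contra hcon
  push Not at hcon
  have hp : p.Prime := Fact.out
  have hGfin : Finite G := Nat.finite_of_card_ne_zero (by rw [hcard]; exact hp.ne_zero)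
  have hRdom : IsDomain R := Groth.Agent.CalgA.RegBasic.isDomain R
  have hRnorm : IsIntegrallyClosed R := Groth.Agent.CurvesC.RegNormal.isIntegrallyClosed R
  have hfaith : FaithfulSMul R A := (faithfulSMul_iff_algebraMap_injective R A).mpr hinj
  have hint : Algebra.IsIntegral R A := Algebra.IsIntegral.of_finite R A
  let S := sepPart R A
  letI : MulSemiringAction G S := act R A G
  have hcomm : SMulCommClass G R S := ⟨fun g r a => Subtype.ext (smul_comm g r (a : A))⟩
  have hSint : Algebra.IsIntegral S A := Algebra.IsIntegral.tower_top (R := R)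
  have hSdom : IsDomain S := inferInstance
  have hSinj : Function.Injective (algebraMap S A) := Subtype.val_injective
  have hSloc : IsLocalHom (algebraMap S A) := K873.RegFree.isLocalHom_of_isIntegral hSinj
  have hSlocal : IsLocalRing S := RingHom.domain_isLocalRing (algebraMap S A)
  have hSnorm : IsIntegrallyClosed S := by
    refine isIntegrallyClosed_of_saturated (algebraMap S A) hSinj fun a b c hc h => ?_
    exact ⟨⟨a, saturated R A b.2 c.2 (fun h0 => hc (Subtype.ext h0)) h⟩, rfl⟩
  have hnoeth : IsNoetherian R A := isNoetherian_of_isNoetherianRing_of_finite R A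
  have hSfin : Module.Finite R S :=
    Module.Finite.of_injective S.val.toLinearMap Subtype.val_injective
  have hRSinj : Function.Injective (algebraMap R S) := fun a b h => hinj (congrArg Subtype.val h)
  have hSres : Function.Surjective (residue S ∘ algebraMap R S) := by
    intro y
    obtain ⟨b, rfl⟩ := residue_surjective y
    obtain ⟨r, hr⟩ := hres (residue A (b : A))
    refine ⟨r, ?_⟩
    change residue S (algebraMap R S r) = residue S b
    rw [← sub_eq_zero, ← map_sub, residue_eq_zero_iff, mem_maximalIdeal, mem_nonunits_iff]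
    intro hu
    have h2 : IsUnit (algebraMap R A r - (b : A)) := hu.map (algebraMap S A)
    have h3 : algebraMap R A r - (b : A) ∈ maximalIdeal A := by
      rw [← residue_eq_zero_iff, map_sub, ← hr]
      simp
    exact h3 h2
  have hdimA : ringKrullDim A = ringKrullDim R :=
    Groth.Agent.FlatA.DimFin.ringKrullDim_eq_of_isIntegral_of_injective R A hinj
  have hdimS : ringKrullDim S = ringKrullDim R := by
    have : Algebra.IsIntegral R S := Algebra.IsIntegral.of_finite R S
    exact Groth.Agent.FlatA.DimFin.ringKrullDim_eq_of_isIntegral_of_injective R S hRSinj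
  have hpow : ∀ (g : G) (a : A) (e : ℕ), (g • a - a) ^ p ^ e = g • (a ^ p ^ e) - a ^ p ^ e := by
    intro g a e
    rw [sub_pow_char_pow, smul_pow']
  have htriv : ∀ g : G, (∀ b : S, g • b = b) → g = 1 := by
    intro g hg
    have h1 : g ∈ (⊥ : Ideal A).inertia G := by
      intro a
      obtain ⟨e, he⟩ := exists_pow_mem R A p a
      have h2 := hpow g a e
      have h3 : g • (a ^ p ^ e) = a ^ p ^ e := congrArg Subtype.val (hg ⟨a ^ p ^ e, he⟩)
      rw [h3, sub_self] at h2
      exact eq_zero_of_pow_eq_zero h2
    rw [hram ⊥ Ideal.isPrime_bot] at h1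
    · exact Subgroup.mem_bot.mp h1
    · intro h2
      have : ringKrullDim A = 0 := by
        rw [← maximalIdeal_height_eq_ringKrullDim, ← h2]
        simp
      rw [← hdimA, this] at hdim
      exact absurd hdim (by decide)
  have hfaithG : FaithfulSMul G S := ⟨fun {g h} hgh => by
    have : h⁻¹ * g = 1 := htriv _ fun b => by rw [mul_smul, hgh b, inv_smul_smul]
    exact (inv_mul_eq_one.mp this).symm⟩
  have hfix : ∀ b : S, (∀ h : G, h • b = b) → b ∈ Set.range (algebraMap R S) := by
    intro b hb
    obtain ⟨e, he⟩ := hcon (b : A) fun h => congrArg Subtype.val (hb h)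
    obtain ⟨r, hr⟩ := mem_range_of_pow R A p b.2 e he
    exact ⟨r, Subtype.ext hr⟩
  have htop := K873.InGen.inN_eq_top hRSinj hSres hfix
  have hfact : Fact (Nat.card G).Prime := ⟨hcard.symm ▸ hp⟩
  have hex : ∃ P : Ideal S, P.IsPrime ∧ P.height = 1 ∧ P.inertia G = ⊤ := by
    by_contra hno
    push Not at hno
    have h1 : K873.InGen.inN S G ≤ ⊥ := by
      refine iSup_le fun P => ?_
      rcases (P.1.inertia G).eq_bot_or_eq_top_of_prime_card with h | h
      · exact h.le
      · exact absurd h (hno P.1 P.2.1 P.2.2)
    rw [htop, top_le_iff] at h1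
    have h2 : Nat.card G = 1 := by
      rw [← Subgroup.card_top, ← h1, Subgroup.card_bot]
    rw [hcard] at h2
    exact hp.ne_one h2
  obtain ⟨P, hP, hPht, hPin⟩ := hex
  obtain ⟨Q, -, hQ, hQP⟩ := Ideal.exists_ideal_over_prime_of_isIntegral (S := A) P ⊥ (by
        intro b hb
        have : (b : A) = 0 := hb
        have hb0 : b = 0 := Subtype.ext this
        rw [hb0]
        exact zero_mem _)
  have hQm : Q ≠ maximalIdeal A := by
    rintro rfl
    have h1 : P = maximalIdeal S := by
      rw [← hQP]
      exact ((local_hom_TFAE (algebraMap S A)).out 0 4).mp hSloc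
    rw [h1] at hPht
    have h2 : ringKrullDim S = 1 := by
      rw [← maximalIdeal_height_eq_ringKrullDim, hPht]
      rfl
    rw [← hdimS, h2] at hdim
    exact absurd hdim (by decide)
  have hQin : Q.inertia G = ⊤ := by
    rw [eq_top_iff]
    intro g _ a
    obtain ⟨e, he⟩ := exists_pow_mem R A p a
    have h1 : g ∈ P.inertia G := by rw [hPin]; exact Subgroup.mem_top g
    have h2 : (g • (⟨a ^ p ^ e, he⟩ : S) - ⟨a ^ p ^ e, he⟩) ∈ P := h1 _
    rw [← hQP, Ideal.mem_comap] at h2
    have h3 : g • (a ^ p ^ e) - a ^ p ^ e ∈ Q := h2
    rw [← hpow] at h3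
    exact hQ.mem_of_pow_mem _ h3
  rw [hram Q hQ hQm] at hQin
  have h2 : Nat.card G = 1 := by
    rw [← Subgroup.card_top, ← hQin, Subgroup.card_bot]
  rw [hcard] at h2
  exact hp.ne_one h2

end K873.SepInv
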