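import Groth.Agent.S2082
import Groth.Agent.Ega4A.RegCM
import Groth.Agent.FlatA.DimFin
import Groth.Agent.CalgA.RegBasic
import Groth.Agent.WildQuot.K873.Sop
import Mathlib.RingTheory.LocalRing.Length
import Mathlib.RingTheory.LocalRing.Quotient

/-!
# Finite injective maps of regular local rings are free
-/

set_option autoImplicit false
universe u v w

open IsLocalRing

namespace K873.RegFree

theorem isLocalHom_of_isIntegral {R : Type u} {S : Type v} [CommRing R] [CommRing S] [Algebra R S]
    [Algebra.IsIntegral R S] (hinj : Function.Injective (algebraMap R S)) :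
    IsLocalHom (algebraMap R S) :=
  RingHom.IsIntegral.isLocalHom (algebraMap_isIntegral_iff.mpr inferInstance) hinj

theorem map_maximalIdeal_radical {R : Type u} {S : Type v} [CommRing R] [CommRing S] [IsLocalRing R]
    [IsLocalRing S] [Algebra R S] [Algebra.IsIntegral R S] :
    maximalIdeal S ≤ ((maximalIdeal R).map (algebraMap R S)).radical := by
  rw [Ideal.radical_eq_sInf]
  refine le_sInf ?_
  rintro P ⟨hP, hPp⟩
  have h1 : P.comap (algebraMap R S) = maximalIdeal R :=
    ((maximalIdeal.isMaximal R).eq_of_le (Ideal.IsPrime.ne_top (hPp.comap _))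
      (Ideal.map_le_iff_le_comap.mp hP)).symm
  have h2 : P.IsMaximal := Ideal.isMaximal_of_isIntegral_of_isMaximal_comap P
    (h1 ▸ maximalIdeal.isMaximal R)
  rw [eq_maximalIdeal h2]

/-- A finite injective homomorphism of regular local rings is free (same universe). -/
theorem free_aux {R S : Type u} [CommRing R] [CommRing S] [IsRegularLocalRing R] [IsRegularLocalRing S]
    [Algebra R S] [Module.Finite R S] (hinj : Function.Injective (algebraMap R S)) :
    Module.Free R S := by
  have hloc := isLocalHom_of_isIntegral hinj
  have hCM : LocCoh.IsCohenMacaulayLocalRing S :=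
    Groth.Agent.Ega4A.RegCM.isCohenMacaulayLocalRing_of_isRegularLocalRing S
  have hle : (maximalIdeal R).map (algebraMap R S) ≤ maximalIdeal S :=
    ((IsLocalRing.local_hom_TFAE (algebraMap R S)).out 0 2).mp hloc
  have hnt : Nontrivial (S ⧸ (maximalIdeal R).map (algebraMap R S)) :=
    Ideal.Quotient.nontrivial_iff.mpr fun h =>
      (maximalIdeal.isMaximal S).ne_top (top_le_iff.mp (h ▸ hle))
  have hflat : Module.Flat R S := by
    refine Groth.Agent.S2082.result ?_
    rw [Groth.Agent.FlatA.DimFin.ringKrullDim_eq_of_isIntegral_of_injective R S hinj]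
    have h0 : ringKrullDim (S ⧸ (maximalIdeal R).map (algebraMap R S)) = 0 :=
      le_antisymm (K873.Sop.ringKrullDim_quotient_le_zero _ map_maximalIdeal_radical)
        ringKrullDim_nonneg_of_nontrivial
    rw [h0, add_zero]
  exact Module.free_of_flat_of_isLocalRing

/-- A finite injective homomorphism of regular local rings is free. -/
theorem free {R : Type u} {S : Type v} [CommRing R] [CommRing S] [IsRegularLocalRing R]
    [IsRegularLocalRing S] [Algebra R S] [Module.Finite R S]
    (hinj : Function.Injective (algebraMap R S)) : Module.Free R S := by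
  let R' := (algebraMap R S).range
  let e : R ≃+* R' := RingEquiv.ofBijective (algebraMap R S).rangeRestrict
    ⟨fun a b h => hinj (congrArg Subtype.val h), (algebraMap R S).rangeRestrict_surjective⟩
  have h1 : IsRegularLocalRing R' := IsRegularLocalRing.of_ringEquiv e
  let _ : Algebra R R' := (algebraMap R S).rangeRestrict.toAlgebra
  have : IsScalarTower R R' S := IsScalarTower.of_algebraMap_eq' rfl
  have : Module.Finite R' S := Module.Finite.of_restrictScalars_finite R R' S
  have h2 : Module.Free R' S := free_aux (R := R') (S := S) Subtype.val_injective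
  have h3 := Module.Free.chooseBasis R' S
  exact Module.Free.of_basis (h3.mapCoeffs e.symm fun c x => by
    obtain ⟨c, rfl⟩ := e.surjective c
    rw [RingEquiv.symm_apply_apply]
    exact (algebraMap_smul R' c x).symm)

attribute [local instance] Ideal.Quotient.field in
/-- Length of the closed fibre. -/
theorem length_fibre {R : Type u} {S : Type v} [CommRing R] [CommRing S] [IsLocalRing R] [IsLocalRing S]
    [Algebra R S] [Module.Finite R S] [Module.Free R S] [IsLocalHom (algebraMap R S)]
    (hres : Function.Surjective (residue S ∘ algebraMap R S)) :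
    Module.length S (S ⧸ (maximalIdeal R).map (algebraMap R S)) = Module.finrank R S := by
  have h1 := IsLocalRing.length_restrictScalars R S (S ⧸ (maximalIdeal R).map (algebraMap R S))
  have h2 : Module.length (ResidueField R) (ResidueField S) = 1 := by
    have hs : Function.Surjective (algebraMap (ResidueField R) (ResidueField S)) := by
      intro y
      obtain ⟨x, hx⟩ := hres y
      exact ⟨residue R x, hx⟩
    rw [Module.length_eq_of_surjective hs]
    exact Module.length_eq_one _ _
  have h3 : Module.length R (S ⧸ (maximalIdeal R).map (algebraMap R S)) = Module.finrank R S := by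
    have : Module.Finite (R ⧸ maximalIdeal R) (S ⧸ (maximalIdeal R).map (algebraMap R S)) :=
      Module.Finite.of_restrictScalars_finite R _ _
    rw [Module.length_eq_of_surjective (S := R) (R := R ⧸ maximalIdeal R) Ideal.Quotient.mk_surjective,
      Module.length_eq_finrank, IsLocalRing.finrank_quotient_map]
  rw [h2, mul_one, h3] at h1
  exact h1.symm

end K873.RegFree
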