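import Groth.Agent.CalgB.PowField
import Groth.Agent.CalgA.FinitePow
import Groth.Agent.Ega4B.CplFinite
import Groth.Agent.Ega3B.IdemLift
import Groth.Agent.WildQuot.K873.ActJ
import Groth.Agent.WildQuot.K873.PS
import Groth.Agent.WildQuot.K873.RegFree
import Mathlib.RingTheory.Invariant.Basic
import Mathlib.RingTheory.IntegralClosure.IntegrallyClosed

/-!
# Rings of invariants of finite groups acting on complete local rings

`A` a complete Noetherian local ring, `k → A` a field mapping onto the residue field, `G` a finite group acting on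
`A` and fixing `k`.  Then `A^G` is a complete Noetherian local ring and `A` is a finite `A^G`-module.
-/

set_option autoImplicit false
universe u v w

open IsLocalRing

namespace K873.Inv

section Basic

variable (A : Type u) [CommRing A] (G : Type w) [Group G] [MulSemiringAction G A]

theorem isInvariant : Algebra.IsInvariant (FixedPoints.subring A G) A G :=
  ⟨fun b hb => ⟨⟨b, hb⟩, rfl⟩⟩

theorem smulCommClass : SMulCommClass G (FixedPoints.subring A G) A :=
  ⟨fun σ b a => by
    change σ • ((b : A) * a) = (b : A) * (σ • a)
    rw [smul_mul', b.2 σ]⟩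

theorem isIntegral [Finite G] : Algebra.IsIntegral (FixedPoints.subring A G) A :=
  have := isInvariant A G
  Algebra.IsInvariant.isIntegral (FixedPoints.subring A G) A G

theorem isLocalHom_subtype : IsLocalHom (FixedPoints.subring A G).subtype := by
  refine ⟨fun b hb => ?_⟩
  obtain ⟨c, hc⟩ := hb.exists_left_inv
  change c * (b : A) = 1 at hc
  have hb' : (b : A) * c = 1 := by rw [mul_comm]; exact hc
  have h1 : ∀ σ : G, σ • c = c := by
    intro σ
    have h2 : (b : A) * (σ • c) = 1 := by
      have h3 := congrArg (fun x => σ • x) hb'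
      simp only [smul_mul', smul_one] at h3
      rwa [b.2 σ] at h3
    calc σ • c = (c * (b : A)) * (σ • c) := by rw [hc, one_mul]
      _ = c * ((b : A) * (σ • c)) := by ring
      _ = c := by rw [h2, mul_one]
  exact IsUnit.of_mul_eq_one ⟨c, h1⟩ (Subtype.ext hb')

theorem isLocalRing [IsLocalRing A] : IsLocalRing (FixedPoints.subring A G) :=
  have := isLocalHom_subtype A G
  RingHom.domain_isLocalRing (FixedPoints.subring A G).subtype

theorem mem_of_mul_eq [IsDomain A] {a b c : A} (hb : b ∈ FixedPoints.subring A G)
    (hc : c ∈ FixedPoints.subring A G) (hc0 : c ≠ 0) (h : a * c = b) : a ∈ FixedPoints.subring A G := by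
  intro σ
  apply mul_right_cancel₀ hc0
  have h1 := congrArg (fun x => σ • x) h
  simp only [smul_mul'] at h1
  rw [hb σ, hc σ] at h1
  rw [h1, h]

theorem isIntegrallyClosed [IsDomain A] [IsIntegrallyClosed A] :
    IsIntegrallyClosed (FixedPoints.subring A G) := by
  let B := FixedPoints.subring A G
  let K := FractionRing B
  let L := FractionRing A
  have hinj : Function.Injective ((algebraMap A L).comp B.subtype) :=
    (IsFractionRing.injective A L).comp Subtype.val_injective
  let f : K →+* L := IsFractionRing.lift (A := B) hinj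
  have hf : ∀ b : B, f (algebraMap B K b) = algebraMap A L (b : A) := fun b =>
    IsFractionRing.lift_algebraMap hinj b
  rw [isIntegrallyClosed_iff K]
  intro x hx
  have hfx : IsIntegral A (f x) := by
    obtain ⟨P, hP, hPx⟩ := hx
    refine ⟨P.map B.subtype, hP.map _, ?_⟩
    rw [Polynomial.eval₂_map]
    have : (algebraMap A L).comp B.subtype = f.comp (algebraMap B K) := by
      ext b; exact (hf b).symm
    rw [this, ← Polynomial.hom_eval₂, hPx, map_zero]
  obtain ⟨a, ha⟩ := IsIntegrallyClosed.isIntegral_iff.mp hfx
  obtain ⟨b, c, hc, rfl⟩ := IsFractionRing.div_surjective B x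
  have hc0 : (c : A) ≠ 0 := fun h => nonZeroDivisors.ne_zero hc (Subtype.ext h)
  have h1 : a * (c : A) = b := by
    apply IsFractionRing.injective A L
    rw [map_mul, ha, ← hf, ← hf, ← map_mul]
    congr 1
    rw [div_mul_cancel₀]
    exact IsFractionRing.to_map_ne_zero_of_mem_nonZeroDivisors hc
  have h2 := mem_of_mul_eq A G b.2 c.2 hc0 h1
  refine ⟨⟨a, h2⟩, f.injective ?_⟩
  rw [hf]
  exact ha

end Basic

section Complete

variable (A : Type u) [CommRing A] [IsLocalRing A] [IsNoetherianRing A]
  [IsAdicComplete (maximalIdeal A) A] (k : Type v) [Field k] [Algebra k A]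
  (G : Type w) [Group G] [Finite G] [MulSemiringAction G A]

omit [IsAdicComplete (maximalIdeal A) A] in
/-- Finitely many invariants in the maximal ideal generating an `m`-primary ideal. -/
theorem exists_invariants : ∃ (N : ℕ) (x : Fin N → A), (∀ i, x i ∈ maximalIdeal A) ∧
    (∀ i (σ : G), σ • x i = x i) ∧ maximalIdeal A ≤ (Ideal.span (Set.range x)).radical := by
  have hI := isIntegral A G
  have hL := isLocalRing A G
  have hloc := isLocalHom_subtype A G
  let n := maximalIdeal (FixedPoints.subring A G)
  obtain ⟨s, hs, hsn⟩ := (Submodule.fg_span_iff_fg_span_finset_subset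
    ((FixedPoints.subring A G).subtype '' (n : Set (FixedPoints.subring A G)))).mp
    (IsNoetherian.noetherian (Submodule.span A _))
  let x : Fin s.card → A := fun i ↦ (s.equivFin.symm i : A)
  have hx : Set.range x = (s : Set A) := by
    ext a
    constructor
    · rintro ⟨i, rfl⟩
      exact (s.equivFin.symm i).2
    · intro ha
      exact ⟨s.equivFin ⟨a, ha⟩, by simp [x]⟩
  have hmem : ∀ i, ∃ b ∈ n, (FixedPoints.subring A G).subtype b = x i := fun i =>
    hs (s.equivFin.symm i).2
  refine ⟨s.card, x, ?_, ?_, ?_⟩
  · intro i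
    obtain ⟨b, hb, hbx⟩ := hmem i
    rw [← hbx, mem_maximalIdeal, mem_nonunits_iff]
    intro h
    exact hb (IsUnit.of_map _ _ h)
  · intro i σ
    obtain ⟨b, hb, hbx⟩ := hmem i
    rw [← hbx]
    exact b.2 σ
  · rw [hx, Ideal.radical_eq_sInf]
    refine le_sInf ?_
    rintro P ⟨hP, hPp⟩
    have h0 : n ≤ P.comap (algebraMap (FixedPoints.subring A G) A) := by
      intro b hb
      have h1 : (b : A) ∈ Submodule.span A ((FixedPoints.subring A G).subtype '' (n : Set _)) :=
        Submodule.subset_span ⟨b, hb, rfl⟩
      rw [hsn] at h1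
      exact hP h1
    have h1 : P.comap (algebraMap (FixedPoints.subring A G) A) = n :=
      ((maximalIdeal.isMaximal _).eq_of_le (Ideal.IsPrime.ne_top (hPp.comap _)) h0).symm
    have h2 : P.IsMaximal := Ideal.isMaximal_of_isIntegral_of_isMaximal_comap P
      (by rw [h1]; exact maximalIdeal.isMaximal _)
    rw [eq_maximalIdeal h2]

open Groth.Agent.Ega41.PowEval MvPowerSeries in
/-- The invariant ring contains a power series ring image over which `A` is finite. -/
theorem exists_finite (hk : Function.Surjective (residue A ∘ algebraMap k A))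
    (hGk : ∀ (σ : G) (c : k), σ • algebraMap k A c = algebraMap k A c) :
    ∃ (N : ℕ) (ψ : MvPowerSeries (Fin N) k →+* FixedPoints.subring A G),
      ((FixedPoints.subring A G).subtype.comp ψ).Finite ∧
      (∀ c : k, (ψ (MvPowerSeries.C c) : A) = algebraMap k A c) := by
  obtain ⟨N, x, hxm, hxG, hrad⟩ := exists_invariants A G
  let φ : MvPowerSeries (Fin N) k →ₐ[k] A := powEval (maximalIdeal A) x hxm
  have hfin := K873.PS.finite hk x hxm hrad φ (fun i => powEval_X _ _ _ i)
  have hmem : ∀ f, φ f ∈ FixedPoints.subring A G := by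
    intro f σ
    rw [← sub_eq_zero, ← Ideal.mem_bot]
    refine K873.ActJ.mem_of_forall_sup_pow ⊥ fun n => ?_
    rw [bot_sup_eq]
    have h1 := K873.PS.sub_aeval_mem (maximalIdeal A) x hxm φ (fun i => powEval_X _ _ _ i) n f
    set y := MvPolynomial.aeval x (truncTotal n f) with hy
    have h2 : σ • y = y := by
      rw [hy]
      generalize truncTotal n f = P
      induction P using MvPolynomial.induction_on with
      | C c =>
        have : (MvPolynomial.aeval x (MvPolynomial.C c) : A) = algebraMap k A c :=
          MvPolynomial.aeval_C _ _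
        rw [this, hGk]
      | add P Q hP hQ => rw [map_add, smul_add, hP, hQ]
      | mul_X P i hP => rw [map_mul, MvPolynomial.aeval_X, smul_mul', hP, hxG]
    have h3 : σ • φ f - φ f = σ • (φ f - y) - (φ f - y) := by
      rw [smul_sub, h2]
      ring
    rw [h3]
    exact Ideal.sub_mem _ (K873.ActJ.smul_mem_maximalIdeal_pow σ n h1) h1
  refine ⟨N, φ.toRingHom.codRestrict (FixedPoints.subring A G) hmem, hfin, fun c => ?_⟩
  exact powEval_C _ _ _ c

/-- The invariant ring is Noetherian, complete, and `A` is a finite module over it. -/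
theorem main (hk : Function.Surjective (residue A ∘ algebraMap k A))
    (hGk : ∀ (σ : G) (c : k), σ • algebraMap k A c = algebraMap k A c) :
    IsNoetherianRing (FixedPoints.subring A G) ∧ Module.Finite (FixedPoints.subring A G) A ∧
      IsAdicComplete ((maximalIdeal A).comap (FixedPoints.subring A G).subtype)
        (FixedPoints.subring A G) := by
  obtain ⟨N, ψ, hfin, -⟩ := exists_finite A k G hk hGk
  let S := MvPowerSeries (Fin N) k
  let B := FixedPoints.subring A G
  let _ : Algebra S B := ψ.toAlgebra
  let _ : Algebra S A := (B.subtype.comp ψ).toAlgebra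
  have : IsScalarTower S B A := IsScalarTower.of_algebraMap_eq' rfl
  have hSA : Module.Finite S A := hfin
  have hSreg : IsRegularLocalRing S := Groth.Agent.CalgB.PowField.isRegularLocalRing k N
  have hSc : IsAdicComplete (maximalIdeal S) S := Groth.Agent.CalgB.PowField.isAdicComplete k N
  have hSB : IsNoetherian S B :=
    isNoetherian_of_injective (IsScalarTower.toAlgHom S B A).toLinearMap Subtype.val_injective
  have hSB' : Module.Finite S B := inferInstance
  have hB : IsNoetherianRing B := isNoetherian_of_tower S hSB
  have hBA : Module.Finite B A := Module.Finite.of_restrictScalars_finite S B A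
  refine ⟨hB, hBA, ?_⟩
  have hL := isLocalRing A G
  have hloc := isLocalHom_subtype A G
  have hmax : (maximalIdeal A).comap B.subtype = maximalIdeal B :=
    ((IsLocalRing.local_hom_TFAE B.subtype).out 0 4).mp hloc
  rw [hmax]
  have h1 : IsAdicComplete ((maximalIdeal S).map (algebraMap S B)) B :=
    Groth.Agent.Ega3B.IdemLift.isAdicComplete_map S B (maximalIdeal S)
  have h2 : maximalIdeal B ≤ ((maximalIdeal S).map (algebraMap S B)).radical :=
    K873.RegFree.map_maximalIdeal_radical
  obtain ⟨e, he⟩ := Ideal.exists_pow_le_of_le_radical_of_fg h2 (hB.noetherian _)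
  refine Groth.Agent.Ega4B.CplFinite.isAdicComplete_of_pow_le
    (I := (maximalIdeal S).map (algebraMap S B)) ?_ he
  refine IsLocalRing.le_maximalIdeal fun h => ?_
  obtain ⟨Q, hQ⟩ := Ideal.exists_maximal B
  have h3 : ((maximalIdeal S).map (algebraMap S B)) ≤ maximalIdeal B := by
    have h4 : (maximalIdeal B).comap (algebraMap S B) = maximalIdeal S :=
      eq_maximalIdeal (Ideal.isMaximal_comap_of_isIntegral_of_isMaximal _)
    rw [Ideal.map_le_iff_le_comap, h4]
  exact (maximalIdeal.isMaximal B).ne_top (top_le_iff.mp (h ▸ h3))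

end Complete

end K873.Inv
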