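import Groth.Agent.WildQuot.K873.GalPur
import Mathlib.RingTheory.Unramified.LocalRing
import Mathlib.FieldTheory.Galois.IsGaloisGroup
import Mathlib.RingTheory.Invariant.Basic
import Groth.Agent.WildQuot.K873.Inv

/-!
# Generation of a Galois group by height-one inertia groups

Let `R` be a regular local ring, `A` a normal local domain finite over `R` with the same residue field, `H` a finite
group acting faithfully on `A` with invariants `R`.  Then `H` is generated by the inertia groups of the primes of
height one of `A`.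
-/

set_option autoImplicit false
universe u v w

open IsLocalRing
open scoped Pointwise

namespace K873.InGen

theorem height_le_height_comap {A : Type u} {B : Type v} [CommRing A] [CommRing B] [Algebra A B]
    [Algebra.IsIntegral A B] (q : Ideal B) [q.IsPrime] :
    q.height ≤ (q.comap (algebraMap A B)).height := by
  have h1 := PrimeSpectrum.height_eq_orderHeight (⟨q, inferInstance⟩ : PrimeSpectrum B)
  have h2 := PrimeSpectrum.height_eq_orderHeight
    (PrimeSpectrum.comap (algebraMap A B) ⟨q, inferInstance⟩)
  have h3 : q.height = Order.height (⟨q, inferInstance⟩ : PrimeSpectrum B) := h1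
  rw [h3]
  refine le_trans (Order.height_le_height_apply_of_strictMono
    (PrimeSpectrum.comap (algebraMap A B)) ?_ _) h2.ge
  intro I J hIJ
  exact Ideal.IsIntegral.comap_lt_comap hIJ

variable {A : Type v} [CommRing A] {H : Type w} [Group H] [MulSemiringAction H A]

/-- The subgroup generated by the inertia groups of the primes of height one. -/
def inN (A : Type v) [CommRing A] (H : Type w) [Group H] [MulSemiringAction H A] : Subgroup H :=
  ⨆ P : {P : Ideal A // P.IsPrime ∧ P.height = 1}, P.1.inertia H

theorem le_inN (P : Ideal A) (hP : P.IsPrime) (h1 : P.height = 1) : P.inertia H ≤ inN A H :=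
  le_iSup (fun P : {P : Ideal A // P.IsPrime ∧ P.height = 1} => P.1.inertia H) ⟨P, hP, h1⟩

theorem normal_inN : (inN A H).Normal := by
  refine ⟨fun n hn g => ?_⟩
  have key : inN A H ≤ (inN A H).comap (MulAut.conj g).toMonoidHom := by
    refine iSup_le ?_
    rintro ⟨P, hP, h1⟩ σ hσ
    let e : A ≃+* A := MulSemiringAction.toRingEquiv H A g⁻¹
    have h2 : (P.comap e).IsPrime := Ideal.IsPrime.comap _
    have h3 : (P.comap e).height = 1 := by rw [RingEquiv.height_comap, h1]
    refine le_inN _ h2 h3 ?_
    intro x
    change g⁻¹ • ((g * σ * g⁻¹) • x - x) ∈ P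
    have h4 : g⁻¹ • ((g * σ * g⁻¹) • x - x) = σ • (g⁻¹ • x) - g⁻¹ • x := by
      rw [smul_sub, ← mul_smul, ← mul_smul]
      congr 2
      group
    rw [h4]
    exact hσ _
  exact key hn

/-- Key lemma: if `N` is normal and contains the inertia group in `H` of a prime `P` of `A`, then the inertia
group in `H/N` of the prime of `A^N` below `P` is trivial. -/
theorem inertia_quotient [Finite H] {R : Type u} [CommRing R] [Algebra R A] [SMulCommClass H R A]
    (N : Subgroup H) [N.Normal] (P : Ideal A) [P.IsPrime] (hP : P.inertia H ≤ N) :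
    (P.comap (algebraMap (FixedPoints.subalgebra R A N) A)).inertia (H ⧸ N) = ⊥ := by
  classical
  let B := FixedPoints.subalgebra R A N
  let Q : Ideal B := P.comap (algebraMap B A)
  have hQ : Q.IsPrime := Ideal.IsPrime.comap _
  have hinv : Algebra.IsInvariant B A N := ⟨fun b hb => ⟨⟨b, hb⟩, rfl⟩⟩
  have hcomm : SMulCommClass N B A := ⟨fun n b a => by
    change n • ((b : A) * a) = (b : A) * (n • a)
    rw [smul_mul', b.2 n]⟩
  have hPQ : P.LiesOver Q := ⟨rfl⟩
  rw [eq_bot_iff]
  intro s hs
  obtain ⟨σ, rfl⟩ := QuotientGroup.mk_surjective s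
  rw [Subgroup.mem_bot, QuotientGroup.eq_one_iff]
  have hσ : ∀ b : B, σ • (b : A) - b ∈ P := fun b => hs b
  have hσB : ∀ b : B, σ • (b : A) ∈ B := fun b => ((QuotientGroup.mk σ : H ⧸ N) • b).2
  have hQσ : P.under B = (σ • P).under B := by
    ext b
    change (b : A) ∈ P ↔ (b : A) ∈ σ • P
    rw [Ideal.mem_pointwise_smul_iff_inv_smul_mem]
    have h1 : (QuotientGroup.mk σ : H ⧸ N)⁻¹ ∈ Q.inertia (H ⧸ N) := inv_mem hs
    have h2 : σ⁻¹ • (b : A) - b ∈ P := h1 b
    constructor
    · intro h
      have := P.add_mem h2 h
      rwa [sub_add_cancel] at this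
    · intro h
      have := P.sub_mem h h2
      rwa [sub_sub_cancel] at this
  obtain ⟨n, hn⟩ := Algebra.IsInvariant.exists_smul_of_under_eq B A N P (σ • P) hQσ
  let τ : H := (n : H)⁻¹ * σ
  have hτP : τ • P = P := by
    change ((n : H)⁻¹ * σ) • P = P
    rw [mul_smul, hn]
    exact inv_smul_smul (n : H) P
  have hτ : ∀ b : B, τ • (b : A) - b ∈ P := by
    intro b
    have h3 : τ • (b : A) = σ • (b : A) := by
      change ((n : H)⁻¹ * σ) • (b : A) = _
      rw [mul_smul]
      exact hσB b n⁻¹
    rw [h3]
    exact hσ b
  have hmap : P = P.map (MulSemiringAction.toRingEquiv H A τ : A →+* A) := hτP.symm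
  let f : (A ⧸ P) ≃+* (A ⧸ P) := Ideal.quotientEquiv P P (MulSemiringAction.toRingEquiv H A τ) hmap
  have hf : ∀ a : A, f (Ideal.Quotient.mk P a) = Ideal.Quotient.mk P (τ • a) := fun a => rfl
  let f' : (A ⧸ P) ≃ₐ[B ⧸ Q] (A ⧸ P) := AlgEquiv.ofRingEquiv (f := f) (by
    intro x
    obtain ⟨b, rfl⟩ := Ideal.Quotient.mk_surjective x
    change Ideal.Quotient.mk P (τ • (b : A)) = Ideal.Quotient.mk P (b : A)
    rw [Ideal.Quotient.eq]
    exact hτ b)
  obtain ⟨n', hn'⟩ := Ideal.Quotient.stabilizerHom_surjective N Q P f'
  have h5 : ∀ a : A, (n' : N) • a - τ • a ∈ P := by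
    intro a
    have h6 := congrArg (fun g : (A ⧸ P) ≃ₐ[B ⧸ Q] (A ⧸ P) => g (Ideal.Quotient.mk P a)) hn'
    have h7 : Ideal.Quotient.mk P ((n' : N) • a) = Ideal.Quotient.mk P (τ • a) := h6
    rwa [Ideal.Quotient.eq] at h7
  have hn'P : ((n' : N) : H) • P = P := n'.2
  have h8 : (((n' : N) : H))⁻¹ * τ ∈ P.inertia H := by
    intro a
    change ((((n' : N) : H))⁻¹ * τ) • a - a ∈ P
    have h9 : ((((n' : N) : H))⁻¹ * τ) • a - a =
        (((n' : N) : H))⁻¹ • (-(((n' : N) : H) • a - τ • a)) := by
      rw [neg_sub, smul_sub, inv_smul_smul, mul_smul]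
    rw [h9, ← Ideal.mem_pointwise_smul_iff_inv_smul_mem, hn'P]
    exact neg_mem (h5 a)
  have h10 : τ ∈ N := by
    have := N.mul_mem (n' : N).2 (hP h8)
    rwa [mul_inv_cancel_left] at this
  have := N.mul_mem n.2 h10
  rwa [mul_inv_cancel_left] at this

/-- A finite unramified local algebra with the same residue field is a quotient. -/
theorem surjective_of_formallyUnramified {R : Type u} {B : Type v} [CommRing R] [IsLocalRing R]
    [CommRing B] [IsLocalRing B] [Algebra R B] [Module.Finite R B] [IsLocalHom (algebraMap R B)]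
    [Algebra.FormallyUnramified R B] (hres : Function.Surjective (residue B ∘ algebraMap R B)) :
    Function.Surjective (algebraMap R B) := by
  have h1 := Algebra.FormallyUnramified.map_maximalIdeal (R := R) (S := B)
  have h2 : (⊤ : Submodule R B) ≤ LinearMap.range (Algebra.linearMap R B) := by
    refine Submodule.le_of_le_smul_of_le_jacobson_bot (I := maximalIdeal R)
      Module.Finite.fg_top (maximalIdeal_le_jacobson _) ?_
    intro b _
    obtain ⟨r, hr⟩ := hres (residue B b)
    have h3 : b - algebraMap R B r ∈ (maximalIdeal R).map (algebraMap R B) := by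
      rw [h1, ← residue_eq_zero_iff, map_sub, ← hr]
      simp
    rw [Ideal.smul_top_eq_map, Submodule.mem_sup]
    exact ⟨algebraMap R B r, ⟨r, rfl⟩, b - algebraMap R B r, h3, by ring⟩
  intro b
  obtain ⟨r, hr⟩ := h2 (x := b) trivial
  exact ⟨r, hr⟩

/-- The group is generated by the inertia groups of primes of height one. -/
theorem inN_eq_top {R : Type u} [CommRing R] [IsRegularLocalRing R]
    {A : Type v} [CommRing A] [IsDomain A] [IsIntegrallyClosed A] [IsLocalRing A]
    [Algebra R A] [Module.Finite R A] (hinj : Function.Injective (algebraMap R A))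
    (hres : Function.Surjective (IsLocalRing.residue A ∘ algebraMap R A))
    {H : Type w} [Group H] [Finite H] [MulSemiringAction H A] [SMulCommClass H R A] [FaithfulSMul H A]
    (hfix : ∀ a : A, (∀ h : H, h • a = a) → a ∈ Set.range (algebraMap R A)) :
    inN A H = ⊤ := by
  have hNA : IsNoetherianRing A := IsNoetherianRing.of_finite R A
  have hnorm : (inN A H).Normal := normal_inN
  let N := inN A H
  let B := FixedPoints.subalgebra R A N
  have hBinv : Algebra.IsInvariant B A N := ⟨fun b hb => ⟨⟨b, hb⟩, rfl⟩⟩
  have hBdom : IsDomain B := inferInstance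
  have hBnorm : IsIntegrallyClosed B := K873.Inv.isIntegrallyClosed A N
  have hBloc : IsLocalRing B := K873.Inv.isLocalRing A N
  have hBAloc : IsLocalHom (algebraMap B A) := K873.Inv.isLocalHom_subtype A N
  have hRNoeth : IsNoetherianRing R := inferInstance
  have hAnoeth : IsNoetherian R A := isNoetherian_of_isNoetherianRing_of_finite R A
  have hBfin : Module.Finite R B :=
    Module.Finite.of_injective B.val.toLinearMap Subtype.val_injective
  have hBint : Algebra.IsIntegral B A := Algebra.IsInvariant.isIntegral B A N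
  have hAinv : Algebra.IsInvariant R A H := ⟨fun a ha => hfix a ha⟩
  have hBinj : Function.Injective (algebraMap R B) := fun a b h => hinj (congrArg Subtype.val h)
  have het : Algebra.FormallyEtale R B := by
    refine K873.GalPur.formallyEtale (R := R) (A := B) hBinj fun q _ hq => ?_
    refine K873.InEt.isEtaleAt (G := H ⧸ N) (R := R) (A := B) hBinj (fun b hb => ?_) q ?_
    · exact Algebra.IsInvariant.isInvariant (A := R) (G := H ⧸ N) b hb
    · obtain ⟨P, -, hP, hPq⟩ := Ideal.exists_ideal_over_prime_of_isIntegral (S := A) q ⊥ (by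
        intro b hb
        have : (b : A) = 0 := hb
        have hb0 : b = 0 := Subtype.ext this
        rw [hb0]
        exact zero_mem _)
      rw [← hPq]
      refine inertia_quotient N P ?_
      have h1 : P.height ≤ 1 := (height_le_height_comap (A := B) P).trans (hPq ▸ hq)
      rcases h1.lt_or_eq with h | h
      · have h0 : P.height = 0 := Order.lt_one_iff.mp h
        have hq0 : P = ⊥ := by
          by_contra hne
          have h4 : (⊥ : Ideal A).height < P.height :=
            Ideal.height_strict_mono_of_isPrime (bot_lt_iff_ne_bot.mpr hne)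
          rw [h0] at h4
          exact not_lt_bot h4
        subst hq0
        intro σ hσ
        have : σ = 1 := by
          refine FaithfulSMul.eq_of_smul_eq_smul (α := A) fun a => ?_
          rw [one_smul, ← sub_eq_zero]
          exact hσ a
        rw [this]
        exact one_mem _
      · exact le_inN P hP h
  have hRBloc : IsLocalHom (algebraMap R B) := K873.RegFree.isLocalHom_of_isIntegral hBinj
  have hBres : Function.Surjective (residue B ∘ algebraMap R B) := by
    intro y
    obtain ⟨b, rfl⟩ := residue_surjective y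
    obtain ⟨r, hr⟩ := hres (residue A (b : A))
    refine ⟨r, ?_⟩
    change residue B (algebraMap R B r) = residue B b
    rw [← sub_eq_zero, ← map_sub, residue_eq_zero_iff, mem_maximalIdeal, mem_nonunits_iff]
    intro hu
    have h2 : IsUnit (algebraMap R A r - (b : A)) := hu.map (algebraMap B A)
    have h3 : algebraMap R A r - (b : A) ∈ maximalIdeal A := by
      rw [← residue_eq_zero_iff, map_sub, ← hr]
      simp
    exact h3 h2
  have hsurj : Function.Surjective (algebraMap R B) := surjective_of_formallyUnramified hBres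
  have hfaith : FaithfulSMul R A := (faithfulSMul_iff_algebraMap_injective R A).mpr hinj
  have hN1 : IsGaloisGroup N R A := by
    refine ⟨inferInstance, inferInstance, ⟨fun a ha => ?_⟩⟩
    obtain ⟨r, hr⟩ := hsurj ⟨a, ha⟩
    exact ⟨r, congrArg Subtype.val hr⟩
  have hH1 : IsGaloisGroup H R A := ⟨inferInstance, inferInstance, hAinv⟩
  have hcN := IsGaloisGroup.card_eq_finrank' N R A
  have hcH := IsGaloisGroup.card_eq_finrank' H R A
  exact Subgroup.eq_top_of_card_eq N (hcN.trans hcH.symm)

end K873.InGen
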