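import Mathlib

set_option autoImplicit false
universe u v w

namespace K873.ElAb

/-- A group generated by pairwise commuting subgroups that are themselves commutative is commutative. -/
theorem comm_of_iSup {H : Type u} [Group H] {ι : Sort v} (I : ι → Subgroup H) (htop : ⨆ i, I i = ⊤)
    (hc : ∀ i j, ∀ g ∈ I i, ∀ h ∈ I j, g * h = h * g) : ∀ g h : H, g * h = h * g := by
  have h1 : ∀ j, I j ≤ Subgroup.center H := by
    intro j h hh
    have h2 : (⊤ : Subgroup H) ≤ Subgroup.centralizer {h} := by
      rw [← htop]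
      refine iSup_le fun i g hg => ?_
      rw [Subgroup.mem_centralizer_singleton_iff]
      exact hc i j g hg h hh
    rw [Subgroup.mem_center_iff]
    intro g
    exact Subgroup.mem_centralizer_singleton_iff.mp (h2 (Subgroup.mem_top g))
  have h3 : (⊤ : Subgroup H) ≤ Subgroup.center H := by
    rw [← htop]
    exact iSup_le h1
  intro g h
  exact Subgroup.mem_center_iff.mp (h3 (Subgroup.mem_top h)) g

/-- A commutative group generated by subgroups of exponent `p` has exponent `p`. -/
theorem pow_of_iSup {H : Type u} [Group H] {ι : Sort v} (I : ι → Subgroup H) (htop : ⨆ i, I i = ⊤)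
    (hc : ∀ g h : H, g * h = h * g) (p : ℕ) (hp : ∀ i, ∀ g ∈ I i, g ^ p = 1) (h : H) : h ^ p = 1 := by
  have h1 : h ∈ ⨆ i, I i := by rw [htop]; exact Subgroup.mem_top h
  induction h1 using Subgroup.iSup_induction' with
  | hp i x hx => exact hp i x hx
  | h1 => exact one_pow p
  | hmul x y _ _ hx hy =>
    have : Commute x y := hc x y
    rw [this.mul_pow, hx, hy, one_mul]

theorem main {H : Type u} [Group H] {ι : Sort v} (I : ι → Subgroup H) (htop : ⨆ i, I i = ⊤)
    (p : ℕ) [Fact p.Prime] (h : ∀ i, I i ≠ ⊥ → Nat.card (I i) = p ∧ (I i).Normal) :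
    (∀ g h : H, g * h = h * g) ∧ ∀ h : H, h ^ p = 1 := by
  have hpow : ∀ i, ∀ g ∈ I i, g ^ p = 1 := by
    intro i g hg
    by_cases hi : I i = ⊥
    · rw [hi, Subgroup.mem_bot] at hg
      rw [hg, one_pow]
    · have h1 : (⟨g, hg⟩ : I i) ^ Nat.card (I i) = 1 := pow_card_eq_one'
      rw [(h i hi).1] at h1
      exact congrArg Subtype.val h1
  have hc : ∀ g h : H, g * h = h * g := by
    refine comm_of_iSup I htop fun i j g hg x hx => ?_
    by_cases hi : I i = ⊥
    · rw [hi, Subgroup.mem_bot] at hg
      rw [hg, one_mul, mul_one]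
    by_cases hj : I j = ⊥
    · rw [hj, Subgroup.mem_bot] at hx
      rw [hx, one_mul, mul_one]
    by_cases hdis : Disjoint (I i) (I j)
    · exact Subgroup.commute_of_normal_of_disjoint _ _ (h i hi).2 (h j hj).2 hdis g x hg hx
    · have hp : p.Prime := Fact.out
      have hfin : Finite (I i) := Nat.finite_of_card_ne_zero (by rw [(h i hi).1]; exact hp.ne_zero)
      have hfinj : Finite (I j) := Nat.finite_of_card_ne_zero (by rw [(h j hj).1]; exact hp.ne_zero)
      have h1 : Nat.card (I i ⊓ I j : Subgroup H) ∣ Nat.card (I i) := Subgroup.card_dvd_of_le inf_le_left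
      rw [(h i hi).1] at h1
      have h2 : Nat.card (I i ⊓ I j : Subgroup H) ≠ 1 := by
        intro h3
        exact hdis (disjoint_iff.mpr (Subgroup.card_eq_one.mp h3))
      have h3 : Nat.card (I i ⊓ I j : Subgroup H) = p := (hp.eq_one_or_self_of_dvd _ h1).resolve_left h2
      have h4 : I i ⊓ I j = I i := Subgroup.eq_of_le_of_card_ge inf_le_left (by rw [h3, (h i hi).1])
      have h5 : I i ⊓ I j = I j := Subgroup.eq_of_le_of_card_ge inf_le_right (by rw [h3, (h j hj).1])
      have h6 : I i = I j := h4.symm.trans h5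
      rw [← h6] at hx
      have hcard : Nat.card (I i) = p := (h i hi).1
      have hcyc : IsCyclic (I i) := isCyclic_of_prime_card hcard
      have := hcyc.isMulCommutative
      have h7 : (⟨g, hg⟩ : I i) * ⟨x, hx⟩ = ⟨x, hx⟩ * ⟨g, hg⟩ := mul_comm' _ _
      exact congrArg Subtype.val h7
  exact ⟨hc, pow_of_iSup I htop hc p hpow⟩

end K873.ElAb
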