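import Groth.Agent.WildQuot.K873.ASReg

/-!
# The Artin–Schreier family is a symmetric algebra with invariant form
-/

set_option autoImplicit false
universe u v w
open MvPolynomial IsLocalRing

namespace K873.ASSym

open K873.ArtSch

variable (p : ℕ) {R : Type u} [CommRing R] {ι : Type v} (a x : ι → R) [Fintype ι]

/-- coefficient of the top monomial -/
noncomputable def lam [Nontrivial R] (hp : 2 ≤ p) : (MvPolynomial ι R ⧸ asI p a x) →ₗ[R] R :=
  (basis p a x hp).coord (fun _ => ⟨p - 1, by omega⟩)

theorem lam_prod [Nontrivial R] (hp : 2 ≤ p) (j : ι → ℕ) (hj : ∀ i, j i < p)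
    [Decidable (∀ i, j i = p - 1)] :
    lam p a x hp (∏ i, Ideal.Quotient.mk (asI p a x) (X i) ^ j i) =
      if ∀ i, j i = p - 1 then 1 else 0 := by
  have h1 : ∏ i, Ideal.Quotient.mk (asI p a x) (X i) ^ j i =
      basis p a x hp (fun i => ⟨j i, hj i⟩) := by rw [basis_apply]
  rw [h1, lam, Module.Basis.coord_apply, Module.Basis.repr_self]
  classical
  rw [Finsupp.single_apply]
  congr 1
  rw [funext_iff]
  simp only [Fin.mk.injEq]

theorem lam_mul [Nontrivial R] (hp : 2 ≤ p) (r : R) (y : MvPolynomial ι R ⧸ asI p a x) :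
    lam p a x hp (algebraMap R _ r * y) = r * lam p a x hp y := by
  have h : algebraMap R _ r * y = r • y := (Algebra.smul_def r y).symm
  rw [h]
  exact map_smul _ _ _

theorem lam_mem [IsLocalRing R] (hp : 2 ≤ p) (b : MvPolynomial ι R ⧸ asI p a x)
    (hb : b ∈ (maximalIdeal R).map (algebraMap R (MvPolynomial ι R ⧸ asI p a x))) :
    lam p a x hp b ∈ maximalIdeal R := by
  rw [Ideal.map] at hb
  have h : ∀ c, lam p a x hp (c * b) ∈ maximalIdeal R := by
    induction hb using Submodule.span_induction with
    | mem b hb =>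
      intro c
      obtain ⟨r, hr, rfl⟩ := hb
      rw [mul_comm, lam_mul]
      exact Ideal.mul_mem_right _ _ hr
    | zero => intro c; rw [mul_zero, map_zero]; exact zero_mem _
    | add y z _ _ hy hz => intro c; rw [mul_add, map_add]; exact add_mem (hy c) (hz c)
    | smul d y _ hy => intro c; rw [smul_eq_mul, ← mul_assoc]; exact hy _
  have := h 1
  rwa [one_mul] at this

variable [IsLocalRing R]

open Classical in
theorem residue_gram (hp : 2 ≤ p) (hx : ∀ i, x i ∈ maximalIdeal R) (ha : ∀ i, a i ∈ maximalIdeal R)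
    (e e' : ι → Fin p) :
    residue R (lam p a x hp (basis p a x hp e * basis p a x hp e')) =
      if e' = (fun i => (e i).rev) then 1 else 0 := by
  rw [basis_apply, basis_apply, ← Finset.prod_mul_distrib]
  simp only [← pow_add]
  by_cases h : ∀ i, (e i : ℕ) + (e' i : ℕ) < p
  · rw [lam_prod p a x hp _ h]
    have h1 : (∀ i, (e i : ℕ) + (e' i : ℕ) = p - 1) ↔ e' = (fun i => (e i).rev) := by
      rw [funext_iff]
      refine forall_congr' fun i => ?_
      rw [Fin.ext_iff, Fin.val_rev]
      have := (e i).2
      omega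
    rw [if_congr h1 rfl rfl]
    split_ifs <;> simp
  · have h1 : e' ≠ (fun i => (e i).rev) := by
      rintro rfl
      refine h fun i => ?_
      rw [Fin.val_rev]
      have := (e i).2
      omega
    rw [if_neg h1, residue_eq_zero_iff]
    apply lam_mem
    push Not at h
    obtain ⟨i, hi⟩ := h
    refine Ideal.prod_mem _ (Finset.mem_univ i) ?_
    rw [← Nat.add_sub_of_le hi, pow_add, rel]
    refine Ideal.mul_mem_right _ _ (add_mem (Ideal.mul_mem_right _ _ (Ideal.mem_map_of_mem _ ?_))
      (Ideal.mem_map_of_mem _ (hx i)))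
    exact Ideal.pow_mem_of_mem _ (ha i) _ (by omega)

/-- The Gram matrix of the form. -/
noncomputable def gram (hp : 2 ≤ p) : Matrix (ι → Fin p) (ι → Fin p) R :=
  Matrix.of fun e e' => lam p a x hp (basis p a x hp e * basis p a x hp e')

open Classical in
theorem isUnit_det_gram (hp : 2 ≤ p) (hx : ∀ i, x i ∈ maximalIdeal R)
    (ha : ∀ i, a i ∈ maximalIdeal R) : IsUnit (gram p a x hp).det := by
  have hloc : IsLocalHom (residue R) := inferInstance
  refine isUnit_of_map_unit (residue R) _ ?_
  rw [RingHom.map_det]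
  let σ : Equiv.Perm (ι → Fin p) := Equiv.piCongrRight fun _ => Fin.revPerm
  have h : (residue R).mapMatrix (gram p a x hp) = σ.permMatrix (ResidueField R) := by
    ext e e'
    rw [RingHom.mapMatrix_apply, Matrix.map_apply, gram, Matrix.of_apply,
      residue_gram p a x hp hx ha, Equiv.Perm.permMatrix, PEquiv.toMatrix_apply]
    congr 1
    rw [Equiv.toPEquiv_apply]
    simp only [Option.mem_def, Option.some.injEq, eq_iff_iff]
    rw [eq_comm]
    rfl
  rw [h, Matrix.det_permutation]
  exact (Units.isUnit (Equiv.Perm.sign σ)).map (Int.castRingHom (ResidueField R))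

open Classical in
theorem exists_eq (hp : 2 ≤ p) (hx : ∀ i, x i ∈ maximalIdeal R)
    (ha : ∀ i, a i ∈ maximalIdeal R) (ψ : (MvPolynomial ι R ⧸ asI p a x) →ₗ[R] R) :
    ∃ b, ∀ y, ψ y = lam p a x hp (y * b) := by
  have hu := isUnit_det_gram p a x hp hx ha
  let c : (ι → Fin p) → R := (gram p a x hp)⁻¹.mulVec fun e => ψ (basis p a x hp e)
  have hc : (gram p a x hp).mulVec c = fun e => ψ (basis p a x hp e) := by
    rw [Matrix.mulVec_mulVec, Matrix.mul_nonsing_inv _ hu, Matrix.one_mulVec]
  refine ⟨∑ e', c e' • basis p a x hp e', fun y => ?_⟩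
  have h : ψ = (lam p a x hp) ∘ₗ (LinearMap.mulRight R (∑ e', c e' • basis p a x hp e')) := by
    refine (basis p a x hp).ext fun e => ?_
    change _ = lam p a x hp (basis p a x hp e * ∑ e', c e' • basis p a x hp e')
    rw [← congrFun hc e, Finset.mul_sum, map_sum, Matrix.mulVec, dotProduct]
    refine Finset.sum_congr rfl fun e' _ => ?_
    rw [mul_smul_comm, map_smul, smul_eq_mul, gram, Matrix.of_apply, mul_comm]
  exact congrArg (fun f => f y) h

open Classical in
theorem eq_zero (hp : 2 ≤ p) (hx : ∀ i, x i ∈ maximalIdeal R)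
    (ha : ∀ i, a i ∈ maximalIdeal R) (b : MvPolynomial ι R ⧸ asI p a x)
    (hb : ∀ y, lam p a x hp (y * b) = 0) : b = 0 := by
  have hu := isUnit_det_gram p a x hp hx ha
  have h1 : (gram p a x hp).mulVec (fun e => (basis p a x hp).repr b e) = 0 := by
    funext e
    rw [Pi.zero_apply, ← hb (basis p a x hp e)]
    conv_rhs => rw [← (basis p a x hp).sum_repr b]
    rw [Finset.mul_sum, map_sum, Matrix.mulVec, dotProduct]
    refine Finset.sum_congr rfl fun e' _ => ?_
    rw [mul_smul_comm, map_smul, smul_eq_mul, gram, Matrix.of_apply, mul_comm]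
  have h2 : (fun e => (basis p a x hp).repr b e) = 0 := by
    have := congrArg (gram p a x hp)⁻¹.mulVec h1
    rwa [Matrix.mulVec_mulVec, Matrix.nonsing_inv_mul _ hu, Matrix.one_mulVec, Matrix.mulVec_zero] at this
  refine (basis p a x hp).ext_elem fun e => ?_
  rw [map_zero, Finsupp.zero_apply]
  exact congrFun h2 e

/-- The form is invariant under the substitution `u_i ↦ u_i + c_i`. -/
theorem lam_sub (hp : 2 ≤ p) (c : ι → R)
    (σ : (MvPolynomial ι R ⧸ asI p a x) →ₐ[R] (MvPolynomial ι R ⧸ asI p a x))
    (hσ : ∀ i, σ (Ideal.Quotient.mk (asI p a x) (X i)) =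
      Ideal.Quotient.mk (asI p a x) (X i) + algebraMap R _ (c i)) (b : MvPolynomial ι R ⧸ asI p a x) :
    lam p a x hp (σ b) = lam p a x hp b := by
  classical
  have h : (lam p a x hp) ∘ₗ σ.toLinearMap = lam p a x hp := by
    refine (basis p a x hp).ext fun e => ?_
    change lam p a x hp (σ (basis p a x hp e)) = _
    rw [basis_apply, map_prod]
    simp only [map_pow, hσ]
    rw [lam_prod p a x hp _ fun i => (e i).2]
    simp only [add_pow]
    rw [Finset.prod_univ_sum, map_sum]
    have h1 : ∀ j ∈ Fintype.piFinset fun i : ι => Finset.range ((e i : ℕ) + 1),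
        lam p a x hp (∏ i, Ideal.Quotient.mk (asI p a x) (X i) ^ j i *
          algebraMap R _ (c i) ^ ((e i : ℕ) - j i) * ((e i : ℕ).choose (j i) :
            MvPolynomial ι R ⧸ asI p a x)) =
        if (∀ i, j i = p - 1) then 1 else 0 := by
      intro j hj
      rw [Fintype.mem_piFinset] at hj
      simp only [Finset.mem_range] at hj
      have h2 : ∏ i, Ideal.Quotient.mk (asI p a x) (X i) ^ j i *
          algebraMap R _ (c i) ^ ((e i : ℕ) - j i) * ((e i : ℕ).choose (j i) :
            MvPolynomial ι R ⧸ asI p a x) =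
          algebraMap R _ (∏ i, c i ^ ((e i : ℕ) - j i) * ((e i : ℕ).choose (j i) : R)) *
            ∏ i, Ideal.Quotient.mk (asI p a x) (X i) ^ j i := by
        rw [map_prod, ← Finset.prod_mul_distrib]
        refine Finset.prod_congr rfl fun i _ => ?_
        rw [map_mul, map_pow, map_natCast]
        ring
      rw [h2, lam_mul, lam_prod p a x hp _ fun i => (Nat.lt_succ_iff.mp (hj i)).trans_lt (e i).2]
      split_ifs with h3
      · rw [mul_one]
        refine Finset.prod_eq_one fun i _ => ?_
        have h4 : (e i : ℕ) = j i := by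
          have := (e i).2
          have := hj i
          have := h3 i
          omega
        rw [h4, Nat.sub_self, pow_zero, Nat.choose_self, Nat.cast_one, one_mul]
      · rw [mul_zero]
    rw [Finset.sum_congr rfl h1]
    by_cases h5 : ∀ i, (e i : ℕ) = p - 1
    · rw [if_pos h5, Finset.sum_eq_single (fun _ => p - 1)]
      · simp
      · intro j _ hj
        rw [if_neg fun h6 => hj (funext h6)]
      · intro h6
        refine absurd ?_ h6
        rw [Fintype.mem_piFinset]
        intro i
        rw [Finset.mem_range, h5 i]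
        omega
    · rw [if_neg h5]
      refine Finset.sum_eq_zero fun j hj => ?_
      rw [if_neg]
      intro h6
      refine h5 fun i => ?_
      rw [Fintype.mem_piFinset] at hj
      have := hj i
      rw [Finset.mem_range, h6 i] at this
      have := (e i).2
      omega
  exact congrArg (fun f => f b) h

end K873.ASSym
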