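import Mathlib

/-!
# Skew group rings over symmetric algebras with invariant form are symmetric
-/

set_option autoImplicit false
universe u v w

namespace K873.Skew

open SkewMonoidAlgebra

variable {R : Type u} {A : Type v} {G : Type w} [CommRing R] [CommRing A] [Algebra R A] [Group G]
  [Finite G] [MulSemiringAction G A] [SMulCommClass G R A]

omit [Finite G] [MulSemiringAction G A] [SMulCommClass G R A] in
/-- The linear form `λ` applied to the coefficient of `1`. -/
noncomputable def form (l : A →ₗ[R] R) : SkewMonoidAlgebra A G →ₗ[R] R :=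
  l ∘ₗ (Finsupp.lapply (1 : G) : (G →₀ A) →ₗ[R] A) ∘ₗ (coeffLinearEquiv (S := R)).toLinearMap

omit [Finite G] [MulSemiringAction G A] [SMulCommClass G R A] in
theorem form_apply (l : A →ₗ[R] R) (x : SkewMonoidAlgebra A G) : form l x = l (x.coeff 1) := rfl

omit [Finite G] [SMulCommClass G R A] in
theorem form_single_mul (l : A →ₗ[R] R) (h : G) (a : A) (y : SkewMonoidAlgebra A G) :
    form l (single h a * y) = l (a * h • y.coeff h⁻¹) := by
  rw [form_apply, coeff_single_mul, mul_one]

omit [Finite G] [SMulCommClass G R A] in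
theorem form_comm (l : A →ₗ[R] R) (hinv : ∀ (g : G) (a : A), l (g • a) = l a)
    (x y : SkewMonoidAlgebra A G) : form l (x * y) = form l (y * x) := by
  rw [form_apply, form_apply, coeff_mul_left, coeff_mul_right, SkewMonoidAlgebra.sum_def,
    SkewMonoidAlgebra.sum_def, Finsupp.sum, Finsupp.sum, _root_.map_sum, _root_.map_sum]
  refine Finset.sum_congr rfl fun h _ => ?_
  rw [mul_one, one_mul, ← hinv h⁻¹, smul_mul', inv_smul_smul, mul_comm]

theorem main (l : A →ₗ[R] R) (hinv : ∀ (g : G) (a : A), l (g • a) = l a)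
    (hinj : ∀ b : A, (∀ a, l (a * b) = 0) → b = 0)
    (hsurj : ∀ ψ : A →ₗ[R] R, ∃ b : A, ∀ a, ψ a = l (a * b)) :
    ∃ φ : SkewMonoidAlgebra A G →ₗ[R] R,
        (∀ x y : SkewMonoidAlgebra A G, φ (x * y) = φ (y * x)) ∧
        Function.Injective (fun y : SkewMonoidAlgebra A G => fun x : SkewMonoidAlgebra A G => φ (x * y)) ∧
        ∀ ψ : SkewMonoidAlgebra A G →ₗ[R] R, ∃ y : SkewMonoidAlgebra A G, ∀ x, ψ x = φ (x * y) := by
  refine ⟨form l, form_comm l hinv, ?_, ?_⟩
  · intro y y' h
    refine SkewMonoidAlgebra.ext fun g => ?_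
    rw [← sub_eq_zero, ← Finsupp.sub_apply, ← coeff_sub]
    have h1 : g⁻¹ • (y - y').coeff g = 0 := by
      refine hinj _ fun a => ?_
      have h2 := congrFun h (single g⁻¹ a)
      simp only at h2
      rw [← sub_eq_zero, ← map_sub, ← mul_sub, form_single_mul, inv_inv] at h2
      exact h2
    rwa [smul_eq_zero_iff_eq] at h1
  · intro ψ
    have h : ∀ g : G, ∃ b : A, ∀ a, ψ (single g a) = l (a * b) := fun g =>
      hsurj (ψ ∘ₗ lsingle R g)
    choose c hc using h
    let y : SkewMonoidAlgebra A G := ⟨Finsupp.equivFunOnFinite.symm fun g => g • c g⁻¹⟩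
    have hy : ∀ g : G, y.coeff g = g • c g⁻¹ := fun g => rfl
    refine ⟨y, fun x => ?_⟩
    have h2 : ψ = (form l) ∘ₗ (LinearMap.mulRight R y) := by
      refine SkewMonoidAlgebra.lhom_ext fun g a => ?_
      rw [hc g a]
      change _ = form l (single g a * y)
      rw [form_single_mul, hy, inv_inv, smul_inv_smul]
    exact congrArg (fun f => f x) h2

end K873.Skew
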