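import Groth.Agent.WildQuot.K873.ASAut

/-!
# Minor elements `z_j = a_{i₀} u_j - a_j u_{i₀}` of the Artin–Schreier family
-/

set_option autoImplicit false
universe u v w
open MvPolynomial

namespace K873.ASMinor

open K873.ArtSch K873.ASAut

theorem lift_injective (p : ℕ) {R : Type u} [CommRing R] [Nontrivial R] {κ : Type v} [Fintype κ]
    (b y : κ → R) (hp : 2 ≤ p) {D : Type w} [CommRing D] [Algebra R D] (c : κ → D)
    (hc : ∀ i, c i ^ p = algebraMap R D (b i ^ (p - 1)) * c i + algebraMap R D (y i))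
    (hli : LinearIndependent R (fun e : κ → Fin p => ∏ j, c j ^ (e j : ℕ))) :
    Function.Injective (lift p b y c hc) := by
  classical
  have h : (⇑(lift p b y c hc).toLinearMap ∘ ⇑(basis p b y hp)) =
      fun e : κ → Fin p => ∏ j, c j ^ (e j : ℕ) := by
    funext e
    change lift p b y c hc (basis p b y hp e) = _
    rw [basis_apply, map_prod]
    simp only [map_pow, lift_X]
  rw [← h] at hli
  have h2 := (basis p b y hp).linearIndependent
  have h3 : LinearMap.ker (lift p b y c hc).toLinearMap = ⊥ := by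
    rw [LinearMap.ker_eq_bot']
    intro m hm
    rw [← (basis p b y hp).sum_repr m, map_sum] at hm
    simp only [map_smul] at hm
    have h4 := Fintype.linearIndependent_iff.mp hli _ hm
    refine (basis p b y hp).ext_elem fun e => ?_
    rw [map_zero, Finsupp.zero_apply]
    exact h4 e
  exact LinearMap.ker_eq_bot.mp h3

section

variable (p : ℕ) [Fact p.Prime] {R : Type u} [CommRing R] [CharP R p] [Nontrivial R] {ι : Type v}
  [Fintype ι] (a x : ι → R) (μ : R) (i₀ : ι)

/-- the minor element through `i₀`. -/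
noncomputable abbrev zz (j : ι) : MvPolynomial ι R ⧸ asI p (fun i => μ * a i) x :=
  algebraMap R _ (a i₀) * Ideal.Quotient.mk (asI p (fun i => μ * a i) x) (X j) -
    algebraMap R _ (a j) * Ideal.Quotient.mk (asI p (fun i => μ * a i) x) (X i₀)

theorem rel_z (j : ι) : zz p a x μ i₀ j ^ p =
    algebraMap R _ ((μ * a i₀ * a j) ^ (p - 1)) * zz p a x μ i₀ j +
      algebraMap R _ (a i₀ ^ p * x j - a j ^ p * x i₀) := by
  have := charP p (fun i => μ * a i) x
  have hp : 2 ≤ p := (Fact.out : p.Prime).two_le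
  obtain ⟨q, hq⟩ : ∃ q, p = q + 1 := ⟨p - 1, by omega⟩
  rw [zz, sub_pow_char, mul_pow, mul_pow, rel, rel]
  have h1 : p - 1 = q := by omega
  rw [h1]
  have h2 : ∀ r : R, r ^ p = r ^ q * r := fun r => by rw [hq, pow_succ]
  rw [← map_pow, ← map_pow, h2, h2]
  simp only [map_mul, map_sub, map_pow]
  ring

variable [DecidableEq ι]

/-- `w_{i₀} = u_{i₀}`, `w_j = z_j` otherwise. -/
noncomputable def ww (j : ι) : MvPolynomial ι R ⧸ asI p (fun i => μ * a i) x :=
  if j = i₀ then Ideal.Quotient.mk (asI p (fun i => μ * a i) x) (X i₀) else zz p a x μ i₀ j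

omit [Fact p.Prime] [CharP R p] [Nontrivial R] [Fintype ι] in
theorem ww_self : ww p a x μ i₀ i₀ = Ideal.Quotient.mk (asI p (fun i => μ * a i) x) (X i₀) :=
  if_pos rfl

omit [Fact p.Prime] [CharP R p] [Nontrivial R] [Fintype ι] in
theorem ww_of_ne {j : ι} (h : j ≠ i₀) : ww p a x μ i₀ j = zz p a x μ i₀ j := if_neg h

/-- parameters of the family satisfied by `ww`. -/
def bb (j : ι) : R := if j = i₀ then μ * a i₀ else μ * a i₀ * a j

/-- parameters of the family satisfied by `ww`. -/
def yy (j : ι) : R := if j = i₀ then x i₀ else a i₀ ^ p * x j - a j ^ p * x i₀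

theorem rel_ww (j : ι) : ww p a x μ i₀ j ^ p =
    algebraMap R _ (bb a μ i₀ j ^ (p - 1)) * ww p a x μ i₀ j + algebraMap R _ (yy p a x i₀ j) := by
  by_cases h : j = i₀
  · subst h
    rw [ww_self, bb, yy, if_pos rfl, if_pos rfl]
    exact rel p (fun i => μ * a i) x j
  · rw [ww_of_ne p a x μ i₀ h, bb, yy, if_neg h, if_neg h]
    exact rel_z p a x μ i₀ j

end

section Field

variable (p : ℕ) [Fact p.Prime] {K : Type u} [Field K] [CharP K p] {ι : Type v}
  [Fintype ι] [DecidableEq ι] (a x : ι → K) (μ : K) (i₀ : ι)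

theorem lift_surjective (ha : a i₀ ≠ 0) : Function.Surjective
    (lift p (bb a μ i₀) (yy p a x i₀) (ww p a x μ i₀) (rel_ww p a x μ i₀)) := by
  set δ := lift p (bb a μ i₀) (yy p a x i₀) (ww p a x μ i₀) (rel_ww p a x μ i₀) with hδ
  rw [← AlgHom.range_eq_top, ← top_le_iff, ← SepVar.adjoin_eq_top, Algebra.adjoin_le_iff]
  have h0 : Ideal.Quotient.mk (asI p (fun i => μ * a i) x) (X i₀) ∈ δ.range := by
    refine ⟨Ideal.Quotient.mk _ (X i₀), ?_⟩
    change δ _ = _
    rw [hδ, lift_X, ww_self]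
  rintro _ ⟨j, rfl⟩
  by_cases hj : j = i₀
  · rw [hj]; exact h0
  · have hz : zz p a x μ i₀ j ∈ δ.range := by
      refine ⟨Ideal.Quotient.mk _ (X j), ?_⟩
      change δ _ = _
      rw [hδ, lift_X, ww_of_ne p a x μ i₀ hj]
    have h1 : algebraMap K _ (a i₀)⁻¹ * (zz p a x μ i₀ j +
        algebraMap K _ (a j) * Ideal.Quotient.mk (asI p (fun i => μ * a i) x) (X i₀)) ∈ δ.range :=
      mul_mem (Subalgebra.algebraMap_mem _ _) (add_mem hz (mul_mem (Subalgebra.algebraMap_mem _ _) h0))
    have h2 : algebraMap K _ (a i₀)⁻¹ * (zz p a x μ i₀ j +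
        algebraMap K _ (a j) * Ideal.Quotient.mk (asI p (fun i => μ * a i) x) (X i₀)) =
        Ideal.Quotient.mk (asI p (fun i => μ * a i) x) (X j) := by
      rw [zz, sub_add_cancel, ← mul_assoc, ← map_mul, inv_mul_cancel₀ ha, map_one, one_mul]
    rw [h2] at h1
    exact h1

theorem li_field (ha : a i₀ ≠ 0) :
    LinearIndependent K (fun e : ι → Fin p => ∏ j, ww p a x μ i₀ j ^ (e j : ℕ)) := by
  have hp : 2 ≤ p := (Fact.out : p.Prime).two_le
  set δ := lift p (bb a μ i₀) (yy p a x i₀) (ww p a x μ i₀) (rel_ww p a x μ i₀) with hδ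
  have hf1 := finite p (bb a μ i₀) (yy p a x i₀) hp
  have hf2 := finite p (fun i => μ * a i) x hp
  have hinj : Function.Injective δ.toLinearMap := by
    refine (LinearMap.injective_iff_surjective_of_finrank_eq_finrank ?_).mpr
      (lift_surjective p a x μ i₀ ha)
    rw [finrank_eq p _ _ hp, finrank_eq p _ _ hp]
  have h1 := (basis p (bb a μ i₀) (yy p a x i₀) hp).linearIndependent.map' δ.toLinearMap
    (LinearMap.ker_eq_bot.mpr hinj)
  have h : (⇑δ.toLinearMap ∘ ⇑(basis p (bb a μ i₀) (yy p a x i₀) hp)) =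
      fun e : ι → Fin p => ∏ j, ww p a x μ i₀ j ^ (e j : ℕ) := by
    funext e
    change δ (basis p _ _ hp e) = _
    rw [basis_apply, map_prod]
    simp only [map_pow, hδ, lift_X]
  rwa [h] at h1

end Field

section Domain

variable (p : ℕ) [Fact p.Prime] {R : Type u} [CommRing R] [CharP R p] [IsDomain R] {ι : Type v}
  [Fintype ι] [DecidableEq ι] (a x : ι → R) (μ : R) (i₀ : ι)

theorem li (ha : a i₀ ≠ 0) :
    LinearIndependent R (fun e : ι → Fin p => ∏ j, ww p a x μ i₀ j ^ (e j : ℕ)) := by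
  have hp : 2 ≤ p := (Fact.out : p.Prime).two_le
  let K := FractionRing R
  have hinj : Function.Injective (algebraMap R K) := IsFractionRing.injective R K
  have hchar : CharP K p := charP_of_injective_algebraMap hinj p
  let a' : ι → K := fun i => algebraMap R K (a i)
  let x' : ι → K := fun i => algebraMap R K (x i)
  let μ' : K := algebraMap R K μ
  let A' := MvPolynomial ι K ⧸ asI p (fun i => μ' * a' i) x'
  let β : (MvPolynomial ι R ⧸ asI p (fun i => μ * a i) x) →ₐ[R] A' :=
    lift p (fun i => μ * a i) x (fun i => Ideal.Quotient.mk (asI p (fun i => μ' * a' i) x') (X i)) (by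
      intro i
      have e1 : (μ' * a' i) ^ (p - 1) = algebraMap R K ((μ * a i) ^ (p - 1)) := by rw [map_pow, map_mul]
      rw [rel, e1, IsScalarTower.algebraMap_apply R K A', IsScalarTower.algebraMap_apply R K A'])
  have hβ : ∀ j, β (Ideal.Quotient.mk (asI p (fun i => μ * a i) x) (X j)) =
      Ideal.Quotient.mk (asI p (fun i => μ' * a' i) x') (X j) := fun j => lift_X _ _ _ _ _ j
  have hw : ∀ j, β (ww p a x μ i₀ j) = ww p a' x' μ' i₀ j := by
    intro j
    by_cases hj : j = i₀
    · rw [hj, ww_self, ww_self, hβ]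
    · rw [ww_of_ne p a x μ i₀ hj, ww_of_ne p a' x' μ' i₀ hj, zz, zz, map_sub, map_mul, map_mul,
        hβ, hβ, AlgHom.commutes, AlgHom.commutes, IsScalarTower.algebraMap_apply R K A',
        IsScalarTower.algebraMap_apply R K A']
  have h1 := li_field p a' x' μ' i₀ (by
    rw [Ne, IsFractionRing.to_map_eq_zero_iff]; exact ha)
  have h2 : LinearIndependent R (fun e : ι → Fin p => ∏ j, ww p a' x' μ' i₀ j ^ (e j : ℕ)) := by
    refine h1.restrict_scalars ?_
    intro r s hrs
    simp only [Algebra.smul_def, mul_one] at hrs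
    exact hinj hrs
  refine LinearIndependent.of_comp β.toLinearMap ?_
  have h3 : (⇑β.toLinearMap ∘ fun e : ι → Fin p => ∏ j, ww p a x μ i₀ j ^ (e j : ℕ)) =
      fun e : ι → Fin p => ∏ j, ww p a' x' μ' i₀ j ^ (e j : ℕ) := by
    funext e
    change β (∏ j, ww p a x μ i₀ j ^ (e j : ℕ)) = _
    rw [map_prod]
    simp only [map_pow, hw]
  rw [h3]
  exact h2

theorem li_minor (ha : a i₀ ≠ 0) :
    LinearIndependent R (fun e : {j : ι // j ≠ i₀} → Fin p =>
      ∏ j : {j : ι // j ≠ i₀}, zz p a x μ i₀ j.1 ^ (e j : ℕ)) := by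
  have hp : 2 ≤ p := (Fact.out : p.Prime).two_le
  let ext : ({j : ι // j ≠ i₀} → Fin p) → (ι → Fin p) := fun e i =>
    if h : i ≠ i₀ then e ⟨i, h⟩ else ⟨0, by omega⟩
  have hext : Function.Injective ext := by
    intro e e' h
    funext j
    have := congrFun h j.1
    simp only [ext, dif_pos j.2] at this
    exact this
  have h1 := (li p a x μ i₀ ha).comp ext hext
  have h2 : ((fun e : ι → Fin p => ∏ j, ww p a x μ i₀ j ^ (e j : ℕ)) ∘ ext) =
      fun e : {j : ι // j ≠ i₀} → Fin p =>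
        ∏ j : {j : ι // j ≠ i₀}, zz p a x μ i₀ j.1 ^ (e j : ℕ) := by
    funext e
    change ∏ j, ww p a x μ i₀ j ^ (ext e j : ℕ) = _
    rw [← Fintype.prod_subtype_mul_prod_subtype (fun i => i ≠ i₀)]
    have h3 : ∏ i : {i : ι // ¬ i ≠ i₀}, ww p a x μ i₀ i ^ (ext e i : ℕ) = 1 := by
      refine Finset.prod_eq_one fun i _ => ?_
      simp only [ext, dif_neg i.2, pow_zero]
    rw [h3, mul_one]
    refine Finset.prod_congr rfl fun i _ => ?_
    rw [ww_of_ne p a x μ i₀ i.2]
    simp only [ext, dif_pos i.2]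
  rwa [h2] at h1

/-- The ring of minor elements embeds. -/
theorem lift_minor_injective (ha : a i₀ ≠ 0) : Function.Injective
    (lift p (fun j : {j : ι // j ≠ i₀} => μ * a i₀ * a j.1)
      (fun j : {j : ι // j ≠ i₀} => a i₀ ^ p * x j.1 - a j.1 ^ p * x i₀)
      (fun j : {j : ι // j ≠ i₀} => zz p a x μ i₀ j.1) fun j => rel_z p a x μ i₀ j.1) :=
  lift_injective p _ _ (Fact.out : p.Prime).two_le _ _ (li_minor p a x μ i₀ ha)

end Domain

end K873.ASMinor
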