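import Groth.Agent.WildQuot.K873.ASPow
import Groth.Agent.WildQuot.K873.ASMinor

/-!
# Coprime parameters
-/

set_option autoImplicit false
universe u v w
open MvPolynomial

namespace K873.ASCop

theorem ne_zero {k : Type u} [Field k] {n : ℕ} (hn : 2 ≤ n)
    (a : Fin n → MvPowerSeries (Fin n) k)
    (ham : ∀ i, MvPowerSeries.constantCoeff (a i) = 0)
    (hcop : ∀ i j, i ≠ j → IsRelPrime (a i) (a j)) (i₀ : Fin n) : a i₀ ≠ 0 := by
  intro h
  have hex : ∃ j : Fin n, i₀ ≠ j := by
    by_contra hcon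
    push Not at hcon
    have h1 : Fintype.card (Fin n) ≤ 1 := Fintype.card_le_one_iff.mpr fun x y =>
      (hcon x).symm.trans (hcon y)
    rw [Fintype.card_fin] at h1
    omega
  obtain ⟨j, hj⟩ := hex
  have h1 := hcop i₀ j hj
  rw [h, isRelPrime_zero_left] at h1
  rw [MvPowerSeries.isUnit_iff_constantCoeff, ham j] at h1
  exact not_isUnit_zero h1

theorem charP (p : ℕ) {k : Type u} [Field k] [CharP k p] {n : ℕ} : CharP (MvPowerSeries (Fin n) k) p :=
  charP_of_injective_algebraMap
      (FaithfulSMul.algebraMap_injective k (MvPowerSeries (Fin n) k)) p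

theorem isDomain {k : Type u} [Field k] {n : ℕ} : IsDomain (MvPowerSeries (Fin n) k) :=
  NoZeroDivisors.to_isDomain _

end K873.ASCop
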