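import Mathlib

/-!
# Normality of saturated subrings and of their localizations
-/

set_option autoImplicit false
universe u v w

namespace K873.Satur

/-- A subring of a normal domain containing all quotients of its elements that lie in the big ring is normal. -/
theorem isIntegrallyClosed_of_saturated {B : Type v} {A : Type u} [CommRing A] [CommRing B] [IsDomain B]
    [IsDomain A] [IsIntegrallyClosed A] (j : B →+* A) (hj : Function.Injective j)
    (hsat : ∀ (a : A) (b c : B), c ≠ 0 → a * j c = j b → a ∈ Set.range j) :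
    IsIntegrallyClosed B := by
  let K := FractionRing B
  let L := FractionRing A
  have hinj : Function.Injective ((algebraMap A L).comp j) :=
    (IsFractionRing.injective A L).comp hj
  let f : K →+* L := IsFractionRing.lift (A := B) hinj
  have hf : ∀ b : B, f (algebraMap B K b) = algebraMap A L (j b) := fun b =>
    IsFractionRing.lift_algebraMap hinj b
  rw [isIntegrallyClosed_iff K]
  intro x hx
  have hfx : IsIntegral A (f x) := by
    obtain ⟨P, hP, hPx⟩ := hx
    refine ⟨P.map j, hP.map _, ?_⟩
    rw [Polynomial.eval₂_map]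
    have : (algebraMap A L).comp j = f.comp (algebraMap B K) := by
      ext b; exact (hf b).symm
    rw [this, ← Polynomial.hom_eval₂, hPx, map_zero]
  obtain ⟨a, ha⟩ := IsIntegrallyClosed.isIntegral_iff.mp hfx
  obtain ⟨b, c, hc, rfl⟩ := IsFractionRing.div_surjective B x
  have hc0 : c ≠ 0 := nonZeroDivisors.ne_zero hc
  have h1 : a * j c = j b := by
    apply IsFractionRing.injective A L
    rw [map_mul, ha, ← hf, ← hf, ← map_mul]
    congr 1
    rw [div_mul_cancel₀]
    exact IsFractionRing.to_map_ne_zero_of_mem_nonZeroDivisors hc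
  obtain ⟨a', ha'⟩ := hsat a b c hc0 h1
  refine ⟨a', f.injective ?_⟩
  rw [hf, ha']
  exact ha

/-- Normality of a localization of a subring. -/
theorem isIntegrallyClosed_away {B : Type u} {A : Type v} [CommRing B] [IsDomain B] [CommRing A]
    [IsDomain A] [IsIntegrallyClosed A] (L : B →+* A) (hL : Function.Injective L) (f : B) (hf : f ≠ 0)
    (h : ∀ (w : A) (b c : B), c ≠ 0 → w * L c = L b → ∃ (N : ℕ) (b' : B), L f ^ N * w = L b') :
    IsIntegrallyClosed (Localization.Away f) := by
  let Bf := Localization.Away f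
  let Af := Localization.Away (L f)
  have hLf : L f ≠ 0 := (map_ne_zero_iff L hL).mpr hf
  have hMB : Submonoid.powers f ≤ nonZeroDivisors B := powers_le_nonZeroDivisors_of_noZeroDivisors hf
  have hMA : Submonoid.powers (L f) ≤ nonZeroDivisors A :=
    powers_le_nonZeroDivisors_of_noZeroDivisors hLf
  have hBdom : IsDomain Bf := IsLocalization.isDomain_localization hMB
  have hAdom : IsDomain Af := IsLocalization.isDomain_localization hMA
  have hAnorm : IsIntegrallyClosed Af := isIntegrallyClosed_of_isLocalization Af _ hMA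
  have hle : Submonoid.powers f ≤ (Submonoid.powers (L f)).comap L := by
    rintro _ ⟨n, rfl⟩
    exact ⟨n, by simp⟩
  let j : Bf →+* Af := IsLocalization.map Af L hle
  have hj : Function.Injective j :=
    IsLocalization.map_injective_of_injective' (M := Submonoid.powers f) (Sₘ := Af) (hf := hle)
      (hN := fun h0 => nonZeroDivisors.ne_zero (hMA h0) rfl) (hf' := hL)
  have hjalg : ∀ b : B, j (algebraMap B Bf b) = algebraMap A Af (L b) := fun b =>
    IsLocalization.map_eq hle b
  have hAinj : Function.Injective (algebraMap A Af) := IsLocalization.injective Af hMA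
  have hBinj : Function.Injective (algebraMap B Bf) := IsLocalization.injective Bf hMB
  refine isIntegrallyClosed_of_saturated j hj fun a b c hc habc => ?_
  obtain ⟨⟨a1, s1, n1, hn1⟩, ha1⟩ := IsLocalization.surj (Submonoid.powers (L f)) a
  obtain ⟨⟨b1, s2, n2, hn2⟩, hb1⟩ := IsLocalization.surj (Submonoid.powers f) b
  obtain ⟨⟨c1, s3, n3, hn3⟩, hc1⟩ := IsLocalization.surj (Submonoid.powers f) c
  simp only at hn1 hn2 hn3 ha1 hb1 hc1
  rw [← hn1, map_pow] at ha1
  rw [← hn2, map_pow] at hb1
  rw [← hn3, map_pow] at hc1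
  have hb2 := congrArg j hb1
  have hc2 := congrArg j hc1
  rw [map_mul, map_pow, hjalg, hjalg] at hb2 hc2
  have hc10 : c1 ≠ 0 := by
    rintro rfl
    rw [map_zero] at hc1
    rcases mul_eq_zero.mp hc1 with h1 | h1
    · exact hc h1
    · have h2 := eq_zero_of_pow_eq_zero h1
      exact hf (hBinj (by rw [h2, map_zero]))
  set F := algebraMap A Af (L f) with hF
  have hF0 : F ≠ 0 := by
    intro h0
    exact hLf (hAinj (by rw [map_zero]; exact h0))
  have hkey : a1 * L (c1 * f ^ n2) = L (b1 * f ^ (n1 + n3)) := by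
    apply hAinj
    rw [map_mul, map_mul, map_mul, map_mul, map_mul, map_pow, map_pow, map_pow, map_pow, ← ha1, ← hc2,
      ← hb2, ← hF, ← habc]
    ring
  obtain ⟨N, b', hb'⟩ := h a1 _ _ (mul_ne_zero hc10 (pow_ne_zero _ hf)) hkey
  refine ⟨IsLocalization.mk' Bf b' (⟨f ^ (N + n1), N + n1, rfl⟩ : Submonoid.powers f), ?_⟩
  have h1 : IsLocalization.mk' Bf b' (⟨f ^ (N + n1), N + n1, rfl⟩ : Submonoid.powers f) *
      algebraMap B Bf (f ^ (N + n1)) = algebraMap B Bf b' :=
    IsLocalization.mk'_spec Bf b' (⟨f ^ (N + n1), N + n1, rfl⟩ : Submonoid.powers f)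
  have h2 := congrArg j h1
  rw [map_mul, hjalg, hjalg, ← hb', map_mul, map_pow, map_pow, ← hF, map_pow, ← hF, ← ha1] at h2
  apply mul_right_cancel₀ (pow_ne_zero (N + n1) hF0)
  rw [h2]
  ring

end K873.Satur
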