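import Groth.Agent.WildQuot.K873.ASMinor
import Groth.Agent.WildQuot.K873.Satur

/-!
# The ring of minor elements and its localization
-/

set_option autoImplicit false
universe u v w
open MvPolynomial

namespace K873.ASMinor

open K873.ArtSch K873.ASAut

variable (p : ℕ) [Fact p.Prime] {R : Type u} [CommRing R] [CharP R p] [IsDomain R] {ι : Type v}
  [Fintype ι] [DecidableEq ι] (a x : ι → R) (μ : R) (i₀ : ι)

/-- The ring of minor elements through `i₀`. -/
abbrev MinorRing : Type (max u v) :=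
  MvPolynomial {j : ι // j ≠ i₀} R ⧸ asI p (fun j : {j : ι // j ≠ i₀} => μ * a i₀ * a j.1)
    (fun j : {j : ι // j ≠ i₀} => a i₀ ^ p * x j.1 - a j.1 ^ p * x i₀)

/-- The embedding of the ring of minor elements. -/
noncomputable abbrev minorMap : MinorRing p a x μ i₀ →ₐ[R] (MvPolynomial ι R ⧸ asI p (fun i => μ * a i) x) :=
  lift p (fun j : {j : ι // j ≠ i₀} => μ * a i₀ * a j.1)
      (fun j : {j : ι // j ≠ i₀} => a i₀ ^ p * x j.1 - a j.1 ^ p * x i₀)
      (fun j : {j : ι // j ≠ i₀} => zz p a x μ i₀ j.1) fun j => rel_z p a x μ i₀ j.1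

/-- the monomial basis of the ring of minor elements -/
noncomputable abbrev minorBasis (hp : 2 ≤ p) :
    Module.Basis ({j : ι // j ≠ i₀} → Fin p) R (MinorRing p a x μ i₀) :=
  basis p (fun j : {j : ι // j ≠ i₀} => μ * a i₀ * a j.1)
    (fun j : {j : ι // j ≠ i₀} => a i₀ ^ p * x j.1 - a j.1 ^ p * x i₀) hp

theorem minorMap_basis (hp : 2 ≤ p) (e : {j : ι // j ≠ i₀} → Fin p) :
    minorMap p a x μ i₀ (minorBasis p a x μ i₀ hp e) =
      ∏ j : {j : ι // j ≠ i₀}, zz p a x μ i₀ j.1 ^ (e j : ℕ) := by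
  rw [minorBasis, basis_apply, map_prod]
  simp only [map_pow, lift_X]

omit [Fact p.Prime] [CharP R p] [IsDomain R] in
/-- splitting of a monomial -/
theorem prod_ww (e : ι → Fin p) : ∏ j, ww p a x μ i₀ j ^ (e j : ℕ) =
    (∏ j : {j : ι // j ≠ i₀}, zz p a x μ i₀ j.1 ^ (e j.1 : ℕ)) *
      Ideal.Quotient.mk (asI p (fun i => μ * a i) x) (X i₀) ^ (e i₀ : ℕ) := by
  rw [← Fintype.prod_subtype_mul_prod_subtype (fun i => i ≠ i₀)]
  congr 1
  · exact Finset.prod_congr rfl fun i _ => by rw [ww_of_ne p a x μ i₀ i.2]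
  · have : Unique {i : ι // ¬ i ≠ i₀} := ⟨⟨⟨i₀, fun h => h rfl⟩⟩, fun i => Subtype.ext (not_not.mp i.2)⟩
    rw [Fintype.prod_unique]
    have h2 : (default : {i : ι // ¬ i ≠ i₀}).1 = i₀ := not_not.mp (default : {i : ι // ¬ i ≠ i₀}).2
    rw [h2, ww_self]

/-- expansion along powers of `u_{i₀}` -/
noncomputable def theta (β : Fin p → MinorRing p a x μ i₀) : MvPolynomial ι R ⧸ asI p (fun i => μ * a i) x :=
  ∑ t : Fin p, minorMap p a x μ i₀ (β t) *
    Ideal.Quotient.mk (asI p (fun i => μ * a i) x) (X i₀) ^ (t : ℕ)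

theorem theta_eq_sum (hp : 2 ≤ p) (r : (ι → Fin p) → R) :
    theta p a x μ i₀ (fun t => ∑ e' : {j : ι // j ≠ i₀} → Fin p,
      r ((Equiv.funSplitAt i₀ (Fin p)).symm (t, e')) • minorBasis p a x μ i₀ hp e') =
    ∑ e : ι → Fin p, r e • ∏ j, ww p a x μ i₀ j ^ (e j : ℕ) := by
  rw [← (Equiv.funSplitAt i₀ (Fin p)).symm.sum_comp, Fintype.sum_prod_type, theta]
  refine Finset.sum_congr rfl fun t _ => ?_
  rw [map_sum, Finset.sum_mul]
  refine Finset.sum_congr rfl fun e' _ => ?_
  rw [map_smul, minorMap_basis, prod_ww, smul_mul_assoc]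
  congr 2
  · refine Finset.prod_congr rfl fun j _ => ?_
    congr 2
    simp [Equiv.funSplitAt, Equiv.piSplitAt, j.2]
  · congr 2
    simp [Equiv.funSplitAt, Equiv.piSplitAt]

theorem theta_injective (ha : a i₀ ≠ 0) {β : Fin p → MinorRing p a x μ i₀}
    (h : theta p a x μ i₀ β = 0) (t : Fin p) : β t = 0 := by
  have hp : 2 ≤ p := (Fact.out : p.Prime).two_le
  let r : (ι → Fin p) → R := fun e =>
    (minorBasis p a x μ i₀ hp).repr (β (e i₀)) (fun j => e j.1)
  have h1 : β = (fun t => ∑ e' : {j : ι // j ≠ i₀} → Fin p,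
      r ((Equiv.funSplitAt i₀ (Fin p)).symm (t, e')) • minorBasis p a x μ i₀ hp e') := by
    funext t
    conv_lhs => rw [← (minorBasis p a x μ i₀ hp).sum_repr (β t)]
    refine Finset.sum_congr rfl fun e' _ => ?_
    congr 1
    simp only [r]
    congr 2
    · congr 1
      simp [Equiv.funSplitAt, Equiv.piSplitAt]
    · funext j
      simp [Equiv.funSplitAt, Equiv.piSplitAt, j.2]
  rw [h1, theta_eq_sum] at h
  have h2 := Fintype.linearIndependent_iff.mp (li p a x μ i₀ ha) r h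
  refine (minorBasis p a x μ i₀ hp).ext_elem fun e' => ?_
  rw [map_zero, Finsupp.zero_apply]
  have h3 := h2 ((Equiv.funSplitAt i₀ (Fin p)).symm (t, e'))
  simp only [r] at h3
  rw [← h3]
  congr 2
  · congr 1
    simp [Equiv.funSplitAt, Equiv.piSplitAt]
  · funext j
    simp [Equiv.funSplitAt, Equiv.piSplitAt, j.2]

/-- the subalgebra generated by the `ww` -/
noncomputable abbrev wwMap : (MvPolynomial ι R ⧸ asI p (bb a μ i₀) (yy p a x i₀)) →ₐ[R]
    (MvPolynomial ι R ⧸ asI p (fun i => μ * a i) x) :=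
  lift p (bb a μ i₀) (yy p a x i₀) (ww p a x μ i₀) (rel_ww p a x μ i₀)

theorem exists_theta (w : MvPolynomial ι R ⧸ asI p (bb a μ i₀) (yy p a x i₀)) :
    ∃ β, wwMap p a x μ i₀ w = theta p a x μ i₀ β := by
  have hp : 2 ≤ p := (Fact.out : p.Prime).two_le
  refine ⟨fun t => ∑ e' : {j : ι // j ≠ i₀} → Fin p,
      (basis p (bb a μ i₀) (yy p a x i₀) hp).repr w ((Equiv.funSplitAt i₀ (Fin p)).symm (t, e')) •
        minorBasis p a x μ i₀ hp e', ?_⟩
  rw [theta_eq_sum p a x μ i₀ hp ((basis p (bb a μ i₀) (yy p a x i₀) hp).repr w)]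
  conv_lhs => rw [← (basis p (bb a μ i₀) (yy p a x i₀) hp).sum_repr w]
  rw [map_sum]
  refine Finset.sum_congr rfl fun e _ => ?_
  rw [map_smul, basis_apply, map_prod]
  simp only [map_pow, lift_X]

theorem exists_pow_mul (w : MvPolynomial ι R ⧸ asI p (fun i => μ * a i) x) :
    ∃ (N : ℕ), algebraMap R _ (a i₀) ^ N * w ∈ (wwMap p a x μ i₀).range := by
  obtain ⟨q, rfl⟩ := Ideal.Quotient.mk_surjective w
  have halg : ∀ (r : R) (N : ℕ), algebraMap R _ r ^ N ∈ (wwMap p a x μ i₀).range := fun r N =>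
    pow_mem (Subalgebra.algebraMap_mem _ _) N
  induction q using MvPolynomial.induction_on with
  | C r =>
    refine ⟨0, ?_⟩
    rw [pow_zero, one_mul]
    exact Subalgebra.algebraMap_mem _ r
  | add q1 q2 h1 h2 =>
    obtain ⟨N1, h1⟩ := h1
    obtain ⟨N2, h2⟩ := h2
    refine ⟨N1 + N2, ?_⟩
    have h3 := add_mem (mul_mem (halg (a i₀) N2) h1) (mul_mem (halg (a i₀) N1) h2)
    convert h3 using 1
    rw [map_add]
    ring
  | mul_X q j h =>
    obtain ⟨N, h⟩ := h
    have hu0 : Ideal.Quotient.mk (asI p (fun i => μ * a i) x) (X i₀) ∈ (wwMap p a x μ i₀).range := by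
      refine ⟨Ideal.Quotient.mk _ (X i₀), ?_⟩
      change wwMap p a x μ i₀ _ = _
      rw [lift_X, ww_self]
    have huj : algebraMap R _ (a i₀) * Ideal.Quotient.mk (asI p (fun i => μ * a i) x) (X j) ∈
        (wwMap p a x μ i₀).range := by
      by_cases hj : j = i₀
      · rw [hj]
        exact mul_mem (Subalgebra.algebraMap_mem _ _) hu0
      · have h4 : zz p a x μ i₀ j ∈ (wwMap p a x μ i₀).range := by
          refine ⟨Ideal.Quotient.mk _ (X j), ?_⟩
          change wwMap p a x μ i₀ _ = _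
          rw [lift_X, ww_of_ne p a x μ i₀ hj]
        have h5 := add_mem h4 (mul_mem (Subalgebra.algebraMap_mem (wwMap p a x μ i₀).range (a j)) hu0)
        rwa [zz, sub_add_cancel] at h5
    refine ⟨N + 1, ?_⟩
    have h6 := mul_mem h huj
    convert h6 using 1
    rw [map_mul]
    ring

theorem key (ha : a i₀ ≠ 0) [IsDomain (MinorRing p a x μ i₀)]
    (w : MvPolynomial ι R ⧸ asI p (fun i => μ * a i) x) (b c : MinorRing p a x μ i₀) (hc : c ≠ 0)
    (h : w * minorMap p a x μ i₀ c = minorMap p a x μ i₀ b) :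
    ∃ (N : ℕ) (b' : MinorRing p a x μ i₀), algebraMap R _ (a i₀) ^ N * w = minorMap p a x μ i₀ b' := by
  have hp : 2 ≤ p := (Fact.out : p.Prime).two_le
  have : NeZero p := ⟨by omega⟩
  obtain ⟨N, y, hy⟩ := exists_pow_mul p a x μ i₀ w
  obtain ⟨β, hβ⟩ := exists_theta p a x μ i₀ y
  change wwMap p a x μ i₀ y = _ at hy
  rw [hβ] at hy
  refine ⟨N, β 0, ?_⟩
  have h1 : theta p a x μ i₀ (fun t => c * β t - if t = 0 then algebraMap R _ (a i₀) ^ N * b else 0) = 0 := by
    have h2 : theta p a x μ i₀ (fun t => c * β t - if t = 0 then algebraMap R _ (a i₀) ^ N * b else 0) =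
        minorMap p a x μ i₀ c * theta p a x μ i₀ β -
          algebraMap R _ (a i₀) ^ N * minorMap p a x μ i₀ b := by
      rw [theta, theta, Finset.mul_sum]
      simp only [map_sub, map_mul, sub_mul]
      rw [Finset.sum_sub_distrib]
      congr 1
      · exact Finset.sum_congr rfl fun t _ => by ring
      · rw [Finset.sum_eq_single (0 : Fin p)]
        · rw [if_pos rfl, Fin.val_zero, pow_zero, mul_one, map_mul, map_pow, AlgHom.commutes]
        · intro t _ ht
          rw [if_neg ht, map_zero, zero_mul]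
        · intro h0
          exact absurd (Finset.mem_univ _) h0
    rw [h2, hy, ← h]
    ring
  have h3 : ∀ t : Fin p, t ≠ 0 → β t = 0 := by
    intro t ht
    have h4 := theta_injective p a x μ i₀ ha h1 t
    simp only [if_neg ht, sub_zero] at h4
    exact (mul_eq_zero.mp h4).resolve_left hc
  rw [← hy, theta, Finset.sum_eq_single (0 : Fin p)]
  · rw [Fin.val_zero, pow_zero, mul_one]
  · intro t _ ht
    rw [h3 t ht, map_zero, zero_mul]
  · intro h0
    exact absurd (Finset.mem_univ _) h0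

theorem isDomain_minorRing (ha : a i₀ ≠ 0) [IsDomain (MvPolynomial ι R ⧸ asI p (fun i => μ * a i) x)] :
    IsDomain (MinorRing p a x μ i₀) :=
  (lift_minor_injective p a x μ i₀ ha).isDomain (minorMap p a x μ i₀).toRingHom

theorem isIntegrallyClosed_minorRing (ha : a i₀ ≠ 0) (hμ : μ ≠ 0)
    [IsDomain (MvPolynomial ι R ⧸ asI p (fun i => μ * a i) x)]
    [IsIntegrallyClosed (MvPolynomial ι R ⧸ asI p (fun i => μ * a i) x)] :
    IsIntegrallyClosed (Localization.Away (algebraMap R (MinorRing p a x μ i₀) (μ * a i₀))) := by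
  have hp : 2 ≤ p := (Fact.out : p.Prime).two_le
  have hdom := isDomain_minorRing p a x μ i₀ ha
  refine K873.Satur.isIntegrallyClosed_away (minorMap p a x μ i₀).toRingHom
    (lift_minor_injective p a x μ i₀ ha) _ ?_ fun w b c hc h => ?_
  · rw [Ne, (injective_iff_map_eq_zero' _).mp (algebraMap_injective p _ _ hp)]
    exact mul_ne_zero hμ ha
  · obtain ⟨N, b', hb'⟩ := key p a x μ i₀ ha w b c hc h
    refine ⟨N, algebraMap R _ μ ^ N * b', ?_⟩
    change (minorMap p a x μ i₀ (algebraMap R _ (μ * a i₀))) ^ N * w = minorMap p a x μ i₀ _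
    rw [AlgHom.commutes, map_mul, mul_pow, mul_assoc, hb', map_mul, map_pow, AlgHom.commutes]

end K873.ASMinor
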