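import Groth.Agent.WildQuot.K873.ASInvB

/-!
# The kernel of `R[T] → A`, `T ↦ z_s`
-/

set_option autoImplicit false
universe u v w
open MvPolynomial

namespace K873.ASInv

open K873.ArtSch K873.ASAut

variable (p : ℕ) [Fact p.Prime] {R : Type u} [CommRing R] [CharP R p] [IsDomain R] {ι : Type v}
  [Fintype ι] [DecidableEq ι] (a x : ι → R) (μ : R) (s : ι → ZMod p)

/-- the polynomial `f_s` -/
noncomputable def fs : Polynomial R :=
  Polynomial.X ^ p - Polynomial.C ((μ * ∏ j ∈ supp p s, a j) ^ (p - 1)) * Polynomial.X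
      - Polynomial.C (∑ i ∈ supp p s, cs p s i * al p a s i ^ p * x i)

theorem ker_eq (hs : s ≠ 0) (ha : ∀ i, a i ≠ 0) :
    RingHom.ker (Polynomial.aeval (zs p a x μ s) : Polynomial R →ₐ[R] _) = Ideal.span {fs p a x μ s} := by
  have hp : 2 ≤ p := (Fact.out : p.Prime).two_le
  obtain ⟨i₀, hi₀⟩ : ∃ i, s i ≠ 0 := by
    by_contra hcon
    push Not at hcon
    exact hs (funext hcon)
  have hal : ∀ i, al p a s i ≠ 0 := fun i => Finset.prod_ne_zero_iff.mpr fun j _ => ha j
  have hdd : dd p a s i₀ ≠ 0 := by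
    rw [dd, if_pos hi₀]
    exact mul_ne_zero (cs_ne_zero p s hi₀) (hal i₀)
  have hli := li_lin p (fun i => μ * a i) x (dd p a s) hp i₀ hdd
  have hfs : fs p a x μ s = pol p (fun _ : Unit => μ * ∏ j ∈ supp p s, a j)
      (fun _ : Unit => ∑ i ∈ supp p s, cs p s i * al p a s i ^ p * x i) () := rfl
  have hmon : (fs p a x μ s).Monic := by rw [hfs]; exact monic_pol p _ _ hp ()
  have hdeg : (fs p a x μ s).natDegree = p := by rw [hfs]; exact natDegree_pol p _ _ hp ()
  have hroot : Polynomial.aeval (zs p a x μ s) (fs p a x μ s) = 0 := by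
    rw [hfs, aeval_pol, zs_pow]
    ring
  refine le_antisymm (fun g hg => ?_) ?_
  · rw [RingHom.mem_ker] at hg
    have h1 : Polynomial.aeval (zs p a x μ s) (g %ₘ fs p a x μ s) = 0 := by
      have h2 := Polynomial.modByMonic_add_div g (fs p a x μ s)
      have h3 := congrArg (Polynomial.aeval (zs p a x μ s)) h2
      rw [map_add, map_mul, hroot, zero_mul, add_zero] at h3
      rw [h3]
      exact hg
    have h4 : (g %ₘ fs p a x μ s).natDegree < p := by
      have h5 := Polynomial.natDegree_modByMonic_lt g hmon (by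
        intro h6
        rw [h6, Polynomial.natDegree_one] at hdeg
        omega)
      rwa [hdeg] at h5
    rw [(g %ₘ fs p a x μ s).as_sum_range' p h4, map_sum] at h1
    simp only [Polynomial.aeval_monomial] at h1
    rw [Finset.sum_range (fun m => algebraMap R _ ((g %ₘ fs p a x μ s).coeff m) *
      zs p a x μ s ^ m)] at h1
    have h7 : ∀ t : Fin p, (g %ₘ fs p a x μ s).coeff t = 0 := by
      refine Fintype.linearIndependent_iff.mp hli _ ?_
      rw [← h1]
      refine Finset.sum_congr rfl fun t _ => ?_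
      rw [zs]
      exact Algebra.smul_def (R := R) (A := MvPolynomial ι R ⧸ asI p (fun i => μ * a i) x) _ _
    have h8 : g %ₘ fs p a x μ s = 0 := by
      ext m
      rw [Polynomial.coeff_zero]
      by_cases hm : m < p
      · exact h7 ⟨m, hm⟩
      · exact Polynomial.coeff_eq_zero_of_natDegree_lt (by omega)
    rw [Ideal.mem_span_singleton]
    exact (Polynomial.modByMonic_eq_zero_iff_dvd hmon).mp h8
  · rw [Ideal.span_le, Set.singleton_subset_iff]
    exact hroot

theorem sh_prod {n : ℕ} (a x : Fin n → R) (μ : R)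
    (σ : Fin n → ((MvPolynomial (Fin n) R ⧸ asI p (fun i => μ * a i) x) ≃ₐ[R]
      (MvPolynomial (Fin n) R ⧸ asI p (fun i => μ * a i) x)))
    (hσ : ∀ i j, σ i (Ideal.Quotient.mk (asI p (fun i => μ * a i) x) (X j)) =
      Ideal.Quotient.mk (asI p (fun i => μ * a i) x) (X j) +
        (if i = j then algebraMap R _ (μ * a i) else 0)) (ν : Fin n → ZMod p) :
    (List.ofFn (fun i : Fin n => σ i ^ (ν i).val)).prod = sh p (fun i => μ * a i) x ν := by
  have h1 : ∀ i, σ i = sh p (fun i => μ * a i) x (Pi.single i 1) := by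
    intro i
    refine AlgEquiv.coe_toAlgHom_injective (SepVar.algHom_ext fun j => ?_)
    change σ i (Ideal.Quotient.mk _ (X j)) = sh p _ x (Pi.single i 1) (Ideal.Quotient.mk _ (X j))
    rw [hσ, sh_X]
    congr 1
    split_ifs with h
    · subst h
      rw [Pi.single_eq_same, map_one, one_mul]
    · rw [Pi.single_eq_of_ne (Ne.symm h), map_zero, zero_mul, map_zero]
  have h2 : ∀ i, σ i ^ (ν i).val = shHom p a x μ (Multiplicative.ofAdd (Pi.single i (ν i))) := by
    intro i
    rw [h1 i, ← sh_nsmul, shHom_apply]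
    congr 1
    rw [← Pi.single_smul, nsmul_eq_mul, mul_one, ZMod.natCast_zmod_val]
  have h3 : (List.ofFn (fun i : Fin n => σ i ^ (ν i).val)) =
      (List.ofFn (fun i : Fin n => (Multiplicative.ofAdd (Pi.single i (ν i)) :
        Multiplicative (Fin n → ZMod p)))).map (shHom p a x μ) := by
    rw [List.map_ofFn]
    congr 1
    funext i
    exact h2 i
  rw [h3, ← map_list_prod, List.prod_ofFn, ← ofAdd_sum, Finset.univ_sum_single, shHom_apply]

variable [UniqueFactorizationMonoid R]

theorem fixed_iff (hs : s ≠ 0) (ha : ∀ i, a i ≠ 0) (hμ : μ ≠ 0)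
    (hcop : ∀ i j, i ≠ j → IsRelPrime (a i) (a j))
    [IsDomain (MvPolynomial ι R ⧸ asI p (fun i => μ * a i) x)]
    (t : MvPolynomial ι R ⧸ asI p (fun i => μ * a i) x) :
    (∀ ν : ι → ZMod p, ∑ i, ν i * s i = 0 → sh p (fun i => μ * a i) x ν t = t) ↔
      t ∈ (Polynomial.aeval (zs p a x μ s) : Polynomial R →ₐ[R] _).range := by
  constructor
  · intro ht
    obtain ⟨h, hh⟩ := mem_range_of_fixed p a x μ s hs ha hμ hcop t ht
    refine ⟨∑ m : Fin p, Polynomial.monomial (m : ℕ) (h m), ?_⟩
    rw [hh]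
    change Polynomial.aeval (zs p a x μ s) _ = _
    rw [map_sum]
    simp only [Polynomial.aeval_monomial]
  · rintro ⟨g, rfl⟩ ν hν
    change sh p (fun i => μ * a i) x ν (Polynomial.aeval (zs p a x μ s) g) =
      Polynomial.aeval (zs p a x μ s) g
    have h1 : sh p (fun i => μ * a i) x ν (zs p a x μ s) = zs p a x μ s := by
      rw [sh_zs, hν, map_zero, mul_zero, map_zero, add_zero]
    have h2 := Polynomial.aeval_algHom_apply
      (sh p (fun i => μ * a i) x ν).toAlgHom (zs p a x μ s) g
    change Polynomial.aeval (sh p (fun i => μ * a i) x ν (zs p a x μ s)) g =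
      sh p (fun i => μ * a i) x ν (Polynomial.aeval (zs p a x μ s) g) at h2
    rw [← h2, h1]

end K873.ASInv
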