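import Groth.Agent.WildQuot.K873.ASAut

/-!
# Invariants of subgroups of the Artin–Schreier family
-/

set_option autoImplicit false
universe u v w
open MvPolynomial

namespace K873.ASInv

open K873.ArtSch K873.ASAut

/-- Rank argument: too many independent invariants. -/
theorem exists_relation {R : Type u} {A : Type v} [CommRing R] [IsDomain R] [CommRing A] [IsDomain A]
    [Algebra R A] [FaithfulSMul R A] [Module.Finite R A] (G : Type w) [Group G] [Finite G]
    [MulSemiringAction G A] [FaithfulSMul G A] [SMulCommClass G R A] (m : ℕ)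
    (hcard : Module.finrank R A < (m + 1) * Nat.card G) (y : Fin m → A)
    (hy : ∀ i (g : G), g • y i = y i)
    (hli : LinearIndependent R y) (b : A) (hb : ∀ g : G, g • b = b) :
    ∃ (r : R) (c : Fin m → R), r ≠ 0 ∧ algebraMap R A r * b = ∑ i, algebraMap R A (c i) * y i := by
  let B := FixedPoints.subalgebra R A G
  have hinv : Algebra.IsInvariant B A G := ⟨fun b hb => ⟨⟨b, hb⟩, rfl⟩⟩
  have hgal : IsGaloisGroup G B A := ⟨inferInstance, inferInstance, hinv⟩
  have hBf : FaithfulSMul B A := inferInstance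
  have hc : Nat.card G = Module.finrank B A := IsGaloisGroup.card_eq_finrank' G B A
  let v : Option (Fin m) → B := fun o => o.elim ⟨b, hb⟩ (fun i => ⟨y i, hy i⟩)
  have hnot : ¬ LinearIndependent R v := by
    intro hv
    obtain ⟨c, hcli⟩ := exists_linearIndependent_of_le_finrank (R := B) (M := A) (n := Nat.card G) hc.le
    have hli2 := linearIndependent_smul hv hcli
    have h3 := hli2.fintype_card_le_finrank
    rw [Fintype.card_prod, Fintype.card_fin, Fintype.card_option, Fintype.card_fin] at h3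
    omega
  rw [Fintype.not_linearIndependent_iff] at hnot
  obtain ⟨g, hg, hne⟩ := hnot
  rw [Fintype.sum_option] at hg
  have hg2 := congrArg (algebraMap B A) hg
  rw [map_add, map_zero, map_sum] at hg2
  have hsm : ∀ (r : R) (z : B), algebraMap B A (r • z) = algebraMap R A r * (z : A) := by
    intro r z
    rw [Algebra.smul_def, map_mul, ← IsScalarTower.algebraMap_apply]
    rfl
  simp only [hsm] at hg2
  have hg3 : algebraMap R A (g none) * b + ∑ i, algebraMap R A (g (some i)) * y i = 0 := hg2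
  have hg0 : g none ≠ 0 := by
    intro h0
    rw [h0, map_zero, zero_mul, zero_add] at hg3
    have h4 : ∀ i, g (some i) = 0 := by
      refine Fintype.linearIndependent_iff.mp hli _ ?_
      simpa only [Algebra.smul_def] using hg3
    obtain ⟨o, ho⟩ := hne
    rcases o with _ | i
    · exact ho h0
    · exact ho (h4 i)
  refine ⟨g none, fun i => - g (some i), hg0, ?_⟩
  rw [eq_neg_of_add_eq_zero_left hg3, ← Finset.sum_neg_distrib]
  refine Finset.sum_congr rfl fun i _ => ?_
  rw [map_neg, neg_mul]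

/-- In a UFD, divisibility of `g α_i ^ m` for a family without common prime factor. -/
theorem dvd_of_forall_dvd {R : Type u} [CommRing R] [IsDomain R] [UniqueFactorizationMonoid R]
    {ι : Type v} (S : Finset ι) (α : ι → R) (hα : ∀ q : R, Prime q → ∃ i ∈ S, ¬ q ∣ α i) (m : ℕ)
    (ρ : R) (hρ : ρ ≠ 0) (g : R) (h : ∀ i ∈ S, ρ ∣ g * α i ^ m) : ρ ∣ g := by
  induction ρ using UniqueFactorizationMonoid.induction_on_prime generalizing g with
  | h₁ => exact absurd rfl hρ
  | h₂ ρ hu => exact hu.dvd
  | h₃ ρ q hρ0 hq ih =>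
    obtain ⟨i, hi, hqi⟩ := hα q hq
    have h1 : q ∣ g := by
      have h2 : q ∣ g * α i ^ m := (Dvd.intro _ rfl).trans (h i hi)
      exact (hq.dvd_or_dvd h2).resolve_right fun h3 => hqi (hq.dvd_of_dvd_pow h3)
    obtain ⟨g', rfl⟩ := h1
    refine mul_dvd_mul_left q (ih hρ0 g' fun j hj => ?_)
    have h3 := h j hj
    rw [mul_assoc] at h3
    exact (mul_dvd_mul_iff_left hq.ne_zero).mp h3

theorem exists_not_dvd {R : Type u} [CommRing R] [IsDomain R] {ι : Type v} [DecidableEq ι]
    (S : Finset ι) (hS : S.Nonempty) (a : ι → R)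
    (hcop : ∀ i ∈ S, ∀ j ∈ S, i ≠ j → IsRelPrime (a i) (a j)) (q : R) (hq : Prime q) :
    ∃ i ∈ S, ¬ q ∣ ∏ j ∈ S.erase i, a j := by
  by_contra hcon
  push Not at hcon
  obtain ⟨i, hi⟩ := hS
  obtain ⟨j, hj, hqj⟩ := (hq.dvd_finsetProd_iff _).mp (hcon i hi)
  obtain ⟨l, hl, hql⟩ := (hq.dvd_finsetProd_iff _).mp (hcon j (Finset.mem_of_mem_erase hj))
  exact hq.not_isUnit (hcop j (Finset.mem_of_mem_erase hj) l (Finset.mem_of_mem_erase hl)
    (Finset.ne_of_mem_erase hl).symm hqj hql)

section

variable (p : ℕ) {R : Type u} [CommRing R] {ι : Type v} [Fintype ι] [DecidableEq ι]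
  (a x : ι → R) (d : ι → R)

/-- a linear combination of the variables -/
noncomputable def lin : MvPolynomial ι R ⧸ asI p a x :=
  ∑ i, algebraMap R _ (d i) * Ideal.Quotient.mk (asI p a x) (X i)

theorem lin_pow (m : ℕ) : lin p a x d ^ m = ∑ k ∈ Finset.piAntidiag Finset.univ m,
    algebraMap R _ ((Nat.multinomial Finset.univ k : R) * ∏ i, d i ^ k i) *
      ∏ i, Ideal.Quotient.mk (asI p a x) (X i) ^ k i := by
  rw [lin, Finset.sum_pow_eq_sum_piAntidiag]
  refine Finset.sum_congr rfl fun k _ => ?_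
  simp only [mul_pow]
  rw [Finset.prod_mul_distrib, map_mul, map_natCast, map_prod]
  simp only [map_pow]
  ring

omit [DecidableEq ι] in
theorem repr_mul [Nontrivial R] (hp : 2 ≤ p) (r : R) (y : MvPolynomial ι R ⧸ asI p a x) (e : ι → Fin p) :
    (basis p a x hp).repr (algebraMap R _ r * y) e = r * (basis p a x hp).repr y e := by
  have h : algebraMap R _ r * y = r • y := (Algebra.smul_def r y).symm
  rw [h, map_smul]
  rfl

theorem repr_lin_pow [Nontrivial R] (hp : 2 ≤ p) (i : ι) (m m' : ℕ) (hm : m < p) (hm' : m' < p) :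
    (basis p a x hp).repr (lin p a x d ^ m')
      (fun j => if j = i then ⟨m, hm⟩ else ⟨0, by omega⟩) = if m' = m then d i ^ m else 0 := by
  rw [lin_pow, map_sum, Finsupp.finsetSum_apply]
  have h1 : ∀ k ∈ Finset.piAntidiag (Finset.univ : Finset ι) m',
      (basis p a x hp).repr (algebraMap R _ ((Nat.multinomial Finset.univ k : R) * ∏ i, d i ^ k i) *
        ∏ i, Ideal.Quotient.mk (asI p a x) (X i) ^ k i)
        (fun j => if j = i then ⟨m, hm⟩ else ⟨0, by omega⟩) =
      if k = Pi.single i m then (Nat.multinomial Finset.univ k : R) * ∏ i, d i ^ k i else 0 := by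
    intro k hk
    rw [repr_mul]
    have hkp : ∀ j, k j < p := by
      intro j
      have h2 := (Finset.mem_piAntidiag.mp hk).1
      have h3 : k j ≤ ∑ j, k j := Finset.single_le_sum (fun _ _ => Nat.zero_le _) (Finset.mem_univ j)
      exact (h3.trans h2.le).trans_lt hm'
    have h4 : ∏ i, Ideal.Quotient.mk (asI p a x) (X i) ^ k i =
        basis p a x hp (fun j => ⟨k j, hkp j⟩) := by rw [basis_apply]
    rw [h4, Module.Basis.repr_self, Finsupp.single_apply]
    have h5 : (fun j => (⟨k j, hkp j⟩ : Fin p)) =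
        (fun j => if j = i then (⟨m, hm⟩ : Fin p) else ⟨0, by omega⟩) ↔ k = Pi.single i m := by
      rw [_root_.funext_iff, _root_.funext_iff]
      refine forall_congr' fun j => ?_
      rw [Pi.single_apply]
      split_ifs <;> simp [Fin.ext_iff]
    rw [if_congr h5 rfl rfl]
    split_ifs <;> simp
  rw [Finset.sum_congr rfl h1, Finset.sum_ite_eq']
  have h6 : Pi.single i m ∈ Finset.piAntidiag (Finset.univ : Finset ι) m' ↔ m' = m := by
    rw [Finset.mem_piAntidiag]
    simp [eq_comm]
  rw [if_congr h6 rfl rfl]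
  split_ifs with h
  · rw [Nat.multinomial_single, Nat.cast_one, one_mul, Finset.prod_eq_single i]
    · rw [Pi.single_eq_same]
    · intro j _ hj
      rw [Pi.single_eq_of_ne hj, pow_zero]
    · intro h7
      exact absurd (Finset.mem_univ i) h7
  · rfl

theorem repr_sum [Nontrivial R] (hp : 2 ≤ p) (i : ι) (m : ℕ) (hm : m < p) (g : Fin p → R) :
    (basis p a x hp).repr (∑ t : Fin p, algebraMap R _ (g t) * lin p a x d ^ (t : ℕ))
      (fun j => if j = i then ⟨m, hm⟩ else ⟨0, by omega⟩) = g ⟨m, hm⟩ * d i ^ m := by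
  rw [map_sum, Finsupp.finsetSum_apply]
  simp only [repr_mul]
  rw [Finset.sum_eq_single (⟨m, hm⟩ : Fin p)]
  · rw [repr_lin_pow p a x d hp i m m hm hm, if_pos rfl]
  · intro t _ ht
    rw [repr_lin_pow p a x d hp i m t hm t.2, if_neg, mul_zero]
    intro h
    exact ht (Fin.ext h)
  · intro h
    exact absurd (Finset.mem_univ _) h

theorem li_lin [IsDomain R] (hp : 2 ≤ p) (i : ι) (hd : d i ≠ 0) :
    LinearIndependent R (fun t : Fin p => lin p a x d ^ (t : ℕ)) := by
  rw [Fintype.linearIndependent_iff]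
  intro g hg t
  have h1 : ∑ t : Fin p, algebraMap R _ (g t) * lin p a x d ^ (t : ℕ) = 0 := by
    rw [← hg]
    exact Finset.sum_congr rfl fun t _ => (Algebra.smul_def _ _).symm
  have h2 := repr_sum p a x d hp i t t.2 g
  rw [h1, map_zero, Finsupp.zero_apply] at h2
  exact (mul_eq_zero.mp h2.symm).resolve_right (pow_ne_zero _ hd)

end

end K873.ASInv
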