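import Groth.Agent.WildQuot.K873.ASInv

/-!
# Invariants of hyperplane subgroups of the Artin–Schreier family
-/

set_option autoImplicit false
universe u v w
open MvPolynomial

namespace K873.ASInv

open K873.ArtSch K873.ASAut

variable (p : ℕ) [Fact p.Prime] {R : Type u} [CommRing R] [CharP R p] [IsDomain R] {ι : Type v}
  [Fintype ι] [DecidableEq ι] (a x : ι → R) (μ : R) (s : ι → ZMod p)

/-- constants -/
def cs (i : ι) : R := ZMod.castHom (dvd_refl p) R (s i)

/-- support of `s` -/
def supp : Finset ι := Finset.univ.filter fun i => s i ≠ 0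

/-- `α_i` -/
def al (i : ι) : R := ∏ j ∈ (supp p s).erase i, a j

/-- coefficients of `z_s` -/
def dd (i : ι) : R := if s i ≠ 0 then cs p s i * al p a s i else 0

/-- `z_s` -/
noncomputable def zs : MvPolynomial ι R ⧸ asI p (fun i => μ * a i) x :=
  lin p (fun i => μ * a i) x (dd p a s)

omit [IsDomain R] in
theorem zs_eq : zs p a x μ s = ∑ i ∈ supp p s, algebraMap R _ (cs p s i * al p a s i) *
    Ideal.Quotient.mk (asI p (fun i => μ * a i) x) (X i) := by
  rw [zs, lin, supp, Finset.sum_filter]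
  refine Finset.sum_congr rfl fun i _ => ?_
  rw [dd]
  split_ifs
  · rfl
  · rw [map_zero, zero_mul]

omit [IsDomain R] [Fintype ι] [DecidableEq ι] in
theorem cs_pow (i : ι) : cs p s i ^ p = (cs p s i : R) := cst_pow p (s i)

omit [Fintype ι] [DecidableEq ι] in
theorem cs_ne_zero {i : ι} (h : s i ≠ 0) : (cs p s i : R) ≠ 0 := by
  rw [cs, Ne, (injective_iff_map_eq_zero' _).mp (ZMod.castHom (dvd_refl p) R).injective]
  exact h

omit [IsDomain R] [Fintype ι] [DecidableEq ι] in
theorem isUnit_cs {i : ι} (h : s i ≠ 0) : IsUnit (cs p s i : R) :=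
  (isUnit_iff_ne_zero.mpr h).map (ZMod.castHom (dvd_refl p) R)

omit [CharP R p] [IsDomain R] in
theorem al_mul {i : ι} (h : s i ≠ 0) : al p a s i * a i = ∏ j ∈ supp p s, a j :=
  Finset.prod_erase_mul _ _ (Finset.mem_filter.mpr ⟨Finset.mem_univ i, h⟩)

theorem dd_pow_mul (i : ι) : dd p a s i ^ p * (μ * a i) ^ (p - 1) =
    dd p a s i * (μ * ∏ j ∈ supp p s, a j) ^ (p - 1) := by
  have hp : 2 ≤ p := (Fact.out : p.Prime).two_le
  have haux : ∀ r : R, r ^ p = r ^ (p - 1) * r := fun r => by
    rw [← pow_succ, Nat.sub_add_cancel (by omega)]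
  rw [dd]
  split_ifs with h
  · rw [← al_mul p a s h, mul_pow, cs_pow, haux (al p a s i)]
    ring
  · rw [zero_pow (by omega)]
    ring

theorem dd_pow (i : ι) : dd p a s i ^ p = if s i ≠ 0 then cs p s i * al p a s i ^ p else 0 := by
  have hp : 2 ≤ p := (Fact.out : p.Prime).two_le
  rw [dd]
  split_ifs with h
  · rw [mul_pow, cs_pow]
  · rw [zero_pow (by omega)]

theorem zs_pow : zs p a x μ s ^ p =
    algebraMap R _ ((μ * ∏ j ∈ supp p s, a j) ^ (p - 1)) * zs p a x μ s +
      algebraMap R _ (∑ i ∈ supp p s, cs p s i * al p a s i ^ p * x i) := by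
  have hch := charP p (fun i => μ * a i) x
  rw [zs, lin, sum_pow_char, Finset.mul_sum, map_sum]
  have h1 : ∑ i ∈ supp p s, algebraMap R (MvPolynomial ι R ⧸ asI p (fun i => μ * a i) x)
      (cs p s i * al p a s i ^ p * x i) = ∑ i, algebraMap R _ (dd p a s i ^ p * x i) := by
    rw [supp, Finset.sum_filter]
    refine Finset.sum_congr rfl fun i _ => ?_
    rw [dd_pow]
    split_ifs
    · rfl
    · rw [zero_mul, map_zero]
  rw [h1, ← Finset.sum_add_distrib]
  refine Finset.sum_congr rfl fun i _ => ?_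
  rw [mul_pow, rel, mul_add, ← map_pow, ← mul_assoc, ← map_mul, dd_pow_mul, ← map_mul, map_mul]
  ring

theorem sh_zs (ν : ι → ZMod p) : sh p (fun i => μ * a i) x ν (zs p a x μ s) =
    zs p a x μ s + algebraMap R _ (μ * (∏ j ∈ supp p s, a j) *
      ZMod.castHom (dvd_refl p) R (∑ i, ν i * s i)) := by
  rw [zs, lin, map_sum]
  simp only [map_mul (sh p (fun i => μ * a i) x ν), AlgEquiv.commutes, sh_X, mul_add]
  rw [Finset.sum_add_distrib]
  congr 1
  rw [map_sum, Finset.mul_sum, map_sum]
  refine Finset.sum_congr rfl fun i _ => ?_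
  rw [← map_mul]
  congr 1
  rw [dd]
  split_ifs with h
  · rw [← al_mul p a s h, cs, map_mul]
    ring
  · rw [not_not] at h
    rw [h, mul_zero, map_zero, mul_zero, zero_mul]

/-- shift as a group homomorphism -/
noncomputable def shHom : Multiplicative (ι → ZMod p) →*
    ((MvPolynomial ι R ⧸ asI p (fun i => μ * a i) x) ≃ₐ[R]
      (MvPolynomial ι R ⧸ asI p (fun i => μ * a i) x)) where
  toFun c := sh p (fun i => μ * a i) x c.toAdd
  map_one' := sh_zero p (fun i => μ * a i) x
  map_mul' c d := sh_add p (fun i => μ * a i) x c.toAdd d.toAdd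

theorem shHom_apply (c : ι → ZMod p) :
    shHom p a x μ (Multiplicative.ofAdd c) = sh p (fun i => μ * a i) x c := rfl

/-- the functional defining the hyperplane -/
def func : (ι → ZMod p) →+ ZMod p where
  toFun ν := ∑ i, ν i * s i
  map_zero' := by simp
  map_add' c d := by simp [add_mul, Finset.sum_add_distrib]

theorem card_ker : p ^ Fintype.card ι ≤ Nat.card (func p s).ker * p := by
  have h1 : Nat.card (func p s).ker * (func p s).ker.index = Nat.card (ι → ZMod p) :=
    AddSubgroup.card_mul_index _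
  have h2 : Nat.card (ι → ZMod p) = p ^ Fintype.card ι := by simp
  rw [AddSubgroup.index_ker, h2] at h1
  rw [← h1]
  refine Nat.mul_le_mul_left _ ?_
  have h3 : Nat.card (func p s).range ≤ Nat.card (ZMod p) := Nat.card_le_card_of_injective _
    (Subtype.val_injective (p := fun z => z ∈ (func p s).range))
  rwa [Nat.card_zmod] at h3

/-- the group of substitutions attached to the hyperplane -/
noncomputable def grp : Subgroup ((MvPolynomial ι R ⧸ asI p (fun i => μ * a i) x) ≃ₐ[R]
      (MvPolynomial ι R ⧸ asI p (fun i => μ * a i) x)) :=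
  (AddSubgroup.toSubgroup (func p s).ker).map (shHom p a x μ)

theorem card_grp (hμa : ∀ i, μ * a i ≠ 0) : Nat.card (grp p a x μ s) = Nat.card (func p s).ker := by
  have hinj : Function.Injective (shHom p a x μ) := fun c d h =>
    Multiplicative.toAdd.injective (sh_injective p (fun i => μ * a i) x hμa h)
  exact Nat.card_congr ((AddSubgroup.toSubgroup (func p s).ker).equivMapOfInjective _ hinj).symm.toEquiv

variable [UniqueFactorizationMonoid R]

theorem mem_range_of_fixed (hs : s ≠ 0) (ha : ∀ i, a i ≠ 0) (hμ : μ ≠ 0)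
    (hcop : ∀ i j, i ≠ j → IsRelPrime (a i) (a j))
    [IsDomain (MvPolynomial ι R ⧸ asI p (fun i => μ * a i) x)]
    (t : MvPolynomial ι R ⧸ asI p (fun i => μ * a i) x)
    (ht : ∀ ν : ι → ZMod p, ∑ i, ν i * s i = 0 → sh p (fun i => μ * a i) x ν t = t) :
    ∃ h : Fin p → R, t = ∑ m : Fin p, algebraMap R _ (h m) * zs p a x μ s ^ (m : ℕ) := by
  have hp : 2 ≤ p := (Fact.out : p.Prime).two_le
  have hμa : ∀ i, μ * a i ≠ 0 := fun i => mul_ne_zero hμ (ha i)
  obtain ⟨i₀, hi₀⟩ : ∃ i, s i ≠ 0 := by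
    by_contra hcon
    push Not at hcon
    exact hs (funext hcon)
  have hal : ∀ i, al p a s i ≠ 0 := fun i => Finset.prod_ne_zero_iff.mpr fun j _ => ha j
  have hdd : ∀ i, s i ≠ 0 → dd p a s i ≠ 0 := by
    intro i hi
    rw [dd, if_pos hi]
    exact mul_ne_zero (cs_ne_zero p s hi) (hal i)
  have hfin := finite p (fun i => μ * a i) x hp
  have : FaithfulSMul R (MvPolynomial ι R ⧸ asI p (fun i => μ * a i) x) :=
    (faithfulSMul_iff_algebraMap_injective _ _).mpr (algebraMap_injective p _ x hp)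
  have hcardG := card_grp p a x μ s hμa
  have hfinG : Finite (grp p a x μ s) := by
    have h0 : 0 < Nat.card (func p s).ker := Nat.card_pos
    exact Nat.finite_of_card_ne_zero (by rw [hcardG]; exact h0.ne')
  have hGmem : ∀ g : grp p a x μ s, ∃ ν : ι → ZMod p, ∑ i, ν i * s i = 0 ∧
      ∀ b, g • b = sh p (fun i => μ * a i) x ν b := by
    rintro ⟨g, hg⟩
    obtain ⟨ν, hν, rfl⟩ := Subgroup.mem_map.mp hg
    exact ⟨ν.toAdd, hν, fun b => rfl⟩
  have hzfix : ∀ ν : ι → ZMod p, ∑ i, ν i * s i = 0 →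
      sh p (fun i => μ * a i) x ν (zs p a x μ s) = zs p a x μ s := by
    intro ν hν
    rw [sh_zs, hν, map_zero, mul_zero, map_zero, add_zero]
  have hli := li_lin p (fun i => μ * a i) x (dd p a s) hp i₀ (hdd i₀ hi₀)
  obtain ⟨r, c, hr, hrel⟩ := exists_relation (grp p a x μ s) p (by
      rw [finrank_eq p _ _ hp, hcardG]
      have h1 := card_ker p s
      have h2 : 0 < Nat.card (func p s).ker := Nat.card_pos
      have h3 : (p + 1) * Nat.card (func p s).ker = Nat.card (func p s).ker * p +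
        Nat.card (func p s).ker := by ring
      omega)
    (fun m : Fin p => zs p a x μ s ^ (m : ℕ)) (fun m g => by
      obtain ⟨ν, hν, hg⟩ := hGmem g
      rw [hg, map_pow, hzfix ν hν]) hli t (fun g => by
      obtain ⟨ν, hν, hg⟩ := hGmem g
      rw [hg, ht ν hν])
  have hdvd : ∀ m : Fin p, r ∣ c m := by
    intro m
    refine dvd_of_forall_dvd (supp p s) (al p a s) (fun q hq => ?_) (m : ℕ) r hr (c m) fun i hi => ?_
    · exact exists_not_dvd (supp p s) ⟨i₀, Finset.mem_filter.mpr ⟨Finset.mem_univ _, hi₀⟩⟩ a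
        (fun i _ j _ hij => hcop i j hij) q hq
    · have hsi : s i ≠ 0 := (Finset.mem_filter.mp hi).2
      have h1 := congrArg (fun y => (basis p (fun i => μ * a i) x hp).repr y
        (fun j => if j = i then (⟨m, m.2⟩ : Fin p) else ⟨0, by omega⟩)) hrel
      simp only [repr_mul] at h1
      rw [show (∑ i : Fin p, algebraMap R (MvPolynomial ι R ⧸ asI p (fun i => μ * a i) x) (c i) *
        zs p a x μ s ^ (i : ℕ)) = ∑ i : Fin p, algebraMap R _ (c i) *
          lin p (fun i => μ * a i) x (dd p a s) ^ (i : ℕ) from rfl, repr_sum, dd, if_pos hsi, mul_pow,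
        mul_comm (cs p s i ^ (m : ℕ)), ← mul_assoc] at h1
      exact ((isUnit_cs p s hsi).pow (m : ℕ)).dvd_mul_right.mp (Dvd.intro _ h1)
  choose h hh using hdvd
  refine ⟨h, ?_⟩
  have hr' : algebraMap R (MvPolynomial ι R ⧸ asI p (fun i => μ * a i) x) r ≠ 0 := by
    rw [Ne, (injective_iff_map_eq_zero' _).mp (algebraMap_injective p _ x hp)]
    exact hr
  apply mul_left_cancel₀ hr'
  rw [hrel, Finset.mul_sum]
  refine Finset.sum_congr rfl fun m _ => ?_
  rw [hh m, map_mul, mul_assoc]

end K873.ASInv
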