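import Groth.Agent.WildQuot.K873.ArtSch
import Groth.Agent.CalgA.RegBasic
import Groth.Agent.Ega3B.IdemLift
import Groth.Agent.Ega4B.CplFinite
import Groth.Agent.FlatA.DimFin

/-!
# The Artin–Schreier family over a regular local ring is regular local (and complete)
-/

set_option autoImplicit false
universe u v w
open MvPolynomial IsLocalRing

namespace K873.ASReg

open K873.ArtSch

variable (p : ℕ) {R : Type u} [CommRing R] {ι : Type v} (a x : ι → R)

/-- the ideal generated by the variables -/
noncomputable abbrev mI : Ideal (MvPolynomial ι R ⧸ asI p a x) :=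
  Ideal.span (Set.range fun i => Ideal.Quotient.mk (asI p a x) (X i))

theorem algebraMap_x_mem (hp : 2 ≤ p) (i : ι) : algebraMap R _ (x i) ∈ mI p a x := by
  have h := rel p a x i
  rw [← sub_eq_iff_eq_add'] at h
  rw [← h]
  have hu : Ideal.Quotient.mk (asI p a x) (X i) ∈ mI p a x := Ideal.subset_span ⟨i, rfl⟩
  exact sub_mem (Ideal.pow_mem_of_mem _ hu _ (by omega)) (Ideal.mul_mem_left _ _ hu)

variable [IsLocalRing R]

theorem map_maximalIdeal_le (hp : 2 ≤ p) (hx : Ideal.span (Set.range x) = maximalIdeal R) :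
    (maximalIdeal R).map (algebraMap R (MvPolynomial ι R ⧸ asI p a x)) ≤ mI p a x := by
  rw [← hx, Ideal.map_span, Ideal.span_le]
  rintro _ ⟨_, ⟨i, rfl⟩, rfl⟩
  exact algebraMap_x_mem p a x hp i

theorem isMaximal (hp : 2 ≤ p) (hx : Ideal.span (Set.range x) = maximalIdeal R) :
    (mI p a x).IsMaximal := by
  let ψ : (MvPolynomial ι R ⧸ asI p a x) →ₐ[R] ResidueField R := lift p a x (fun _ => 0) (by
    intro i
    rw [zero_pow (by omega), mul_zero, zero_add]
    symm
    change residue R (x i) = 0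
    rw [residue_eq_zero_iff, ← hx]
    exact Ideal.subset_span ⟨i, rfl⟩)
  have hψ : Function.Surjective ψ := by
    intro y
    obtain ⟨r, rfl⟩ := residue_surjective y
    exact ⟨algebraMap R _ r, ψ.commutes r⟩
  have hle : mI p a x ≤ RingHom.ker ψ := by
    refine Ideal.span_le.mpr ?_
    rintro _ ⟨i, rfl⟩
    exact lift_X p a x _ _ i
  have hker : mI p a x = RingHom.ker ψ := by
    refine le_antisymm hle fun y hy => ?_
    obtain ⟨r, hr⟩ := exists_sub_mem (asI p a x) y
    have h1 : ψ (algebraMap R _ r) = 0 := by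
      have h2 : ψ (y - algebraMap R _ r) = 0 := hle hr
      rw [map_sub, show ψ y = 0 from hy, zero_sub, neg_eq_zero] at h2
      exact h2
    rw [ψ.commutes] at h1
    have h3 : r ∈ maximalIdeal R := (residue_eq_zero_iff r).mp h1
    have h4 := map_maximalIdeal_le p a x hp hx (Ideal.mem_map_of_mem _ h3)
    have := add_mem hr h4
    rwa [sub_add_cancel] at this
  rw [hker]
  exact RingHom.ker_isMaximal_of_surjective _ hψ

variable [Fintype ι]

theorem isLocalRing (hp : 2 ≤ p) (hx : Ideal.span (Set.range x) = maximalIdeal R)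
    (ha : ∀ i, a i ∈ maximalIdeal R) : IsLocalRing (MvPolynomial ι R ⧸ asI p a x) := by
  refine IsLocalRing.of_unique_max_ideal ⟨mI p a x, isMaximal p a x hp hx, fun M hM => ?_⟩
  refine (((isMaximal p a x hp hx).eq_of_le hM.ne_top ?_)).symm
  have hfin := finite p a x hp
  have hint : Algebra.IsIntegral R (MvPolynomial ι R ⧸ asI p a x) := Algebra.IsIntegral.of_finite _ _
  have h1 : (M.comap (algebraMap R (MvPolynomial ι R ⧸ asI p a x))) = maximalIdeal R :=
    IsLocalRing.eq_maximalIdeal (Ideal.isMaximal_comap_of_isIntegral_of_isMaximal (R := R) M)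
  refine Ideal.span_le.mpr ?_
  rintro _ ⟨i, rfl⟩
  refine hM.isPrime.mem_of_pow_mem p ?_
  rw [rel]
  refine add_mem (Ideal.mul_mem_right _ _ ?_) ?_
  · rw [← Ideal.mem_comap, h1]
    exact Ideal.pow_mem_of_mem _ (ha i) _ (by omega)
  · rw [← Ideal.mem_comap, h1, ← hx]
    exact Ideal.subset_span ⟨i, rfl⟩

omit [Fintype ι] in
theorem maximalIdeal_eq (hp : 2 ≤ p) (hx : Ideal.span (Set.range x) = maximalIdeal R)
    [IsLocalRing (MvPolynomial ι R ⧸ asI p a x)] :
    maximalIdeal (MvPolynomial ι R ⧸ asI p a x) = mI p a x :=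
  (IsLocalRing.eq_maximalIdeal (isMaximal p a x hp hx)).symm

theorem ringKrullDim_eq (hp : 2 ≤ p) :
    ringKrullDim (MvPolynomial ι R ⧸ asI p a x) = ringKrullDim R := by
  have hfin := finite p a x hp
  have hint : Algebra.IsIntegral R (MvPolynomial ι R ⧸ asI p a x) := Algebra.IsIntegral.of_finite _ _
  exact Groth.Agent.FlatA.DimFin.ringKrullDim_eq_of_isIntegral_of_injective R _
    (algebraMap_injective p a x hp)

theorem isRegularLocalRing [IsNoetherianRing R] (hp : 2 ≤ p)
    (hx : Ideal.span (Set.range x) = maximalIdeal R)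
    (ha : ∀ i, a i ∈ maximalIdeal R) (hdim : ringKrullDim R = Fintype.card ι) :
    IsRegularLocalRing (MvPolynomial ι R ⧸ asI p a x) := by
  have hloc := isLocalRing p a x hp hx ha
  have hnoeth : IsNoetherianRing (MvPolynomial ι R) := inferInstance
  have hnoeth : IsNoetherianRing (MvPolynomial ι R ⧸ asI p a x) := inferInstance
  refine IsRegularLocalRing.of_spanFinrank_maximalIdeal_le _ ?_
  rw [ringKrullDim_eq p a x hp, hdim, maximalIdeal_eq p a x hp hx]
  have h1 : (mI p a x).spanFinrank ≤ Fintype.card ι := by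
    refine (Submodule.spanFinrank_span_le_ncard_of_finite (Set.finite_range _)).trans ?_
    rw [← Set.image_univ]
    refine (Set.ncard_image_le Set.finite_univ).trans ?_
    simp [Set.ncard_univ]
  exact_mod_cast h1

/-- The `N`-th power of the ideal of the variables is contained in the extension of the maximal ideal. -/
theorem exists_pow_le [IsNoetherianRing R] (hp : 2 ≤ p)
    (hx : Ideal.span (Set.range x) = maximalIdeal R) (ha : ∀ i, a i ∈ maximalIdeal R) :
    ∃ N : ℕ, mI p a x ^ N ≤ (maximalIdeal R).map (algebraMap R (MvPolynomial ι R ⧸ asI p a x)) := by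
  refine Ideal.exists_pow_le_of_le_radical_of_fg ?_ ?_
  · refine Ideal.span_le.mpr ?_
    rintro _ ⟨i, rfl⟩
    refine ⟨p, ?_⟩
    rw [rel]
    refine add_mem (Ideal.mul_mem_right _ _ (Ideal.mem_map_of_mem _ ?_)) (Ideal.mem_map_of_mem _ ?_)
    · exact Ideal.pow_mem_of_mem _ (ha i) _ (by omega)
    · rw [← hx]
      exact Ideal.subset_span ⟨i, rfl⟩
  · exact ⟨(Set.finite_range fun i => Ideal.Quotient.mk (asI p a x) (X i)).toFinset, by simp⟩

theorem isAdicComplete [IsNoetherianRing R] [IsAdicComplete (maximalIdeal R) R] (hp : 2 ≤ p)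
    (hx : Ideal.span (Set.range x) = maximalIdeal R) (ha : ∀ i, a i ∈ maximalIdeal R) :
    IsAdicComplete (mI p a x) (MvPolynomial ι R ⧸ asI p a x) := by
  have hfin := finite p a x hp
  have h1 : IsAdicComplete ((maximalIdeal R).map (algebraMap R (MvPolynomial ι R ⧸ asI p a x)))
    (MvPolynomial ι R ⧸ asI p a x) := Groth.Agent.Ega3B.IdemLift.isAdicComplete_map R _ _
  obtain ⟨N, hN⟩ := exists_pow_le p a x hp hx ha
  exact Groth.Agent.Ega4B.CplFinite.isAdicComplete_of_pow_le (map_maximalIdeal_le p a x hp hx) hN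

theorem isDomain [IsNoetherianRing R] (hp : 2 ≤ p)
    (hx : Ideal.span (Set.range x) = maximalIdeal R)
    (ha : ∀ i, a i ∈ maximalIdeal R) (hdim : ringKrullDim R = Fintype.card ι) :
    IsDomain (MvPolynomial ι R ⧸ asI p a x) := by
  have := isRegularLocalRing p a x hp hx ha hdim
  exact Groth.Agent.CalgA.RegBasic.isDomain _

end K873.ASReg
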