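import Groth.Agent.WildQuot.K873.SepVar

/-!
# The Artin–Schreier family `R[u_i] / (u_i ^ p - a_i ^ (p-1) u_i - x_i)`
-/

set_option autoImplicit false
universe u v w
open MvPolynomial

namespace K873.ArtSch

open K873

variable (p : ℕ) {R : Type u} [CommRing R] {ι : Type v} (a x : ι → R)

/-- The defining ideal, literally as in the statements of the area. -/
noncomputable abbrev asI : Ideal (MvPolynomial ι R) :=
  Ideal.span (Set.range fun i : ι => X i ^ p - C (a i ^ (p - 1)) * X i - C (x i))

/-- The one-variable polynomial. -/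
noncomputable def pol (i : ι) : Polynomial R :=
  Polynomial.X ^ p - Polynomial.C (a i ^ (p - 1)) * Polynomial.X - Polynomial.C (x i)

theorem aeval_pol {C : Type w} [CommRing C] [Algebra R C] (c : C) (i : ι) :
    Polynomial.aeval c (pol p a x i) =
      c ^ p - algebraMap R C (a i ^ (p - 1)) * c - algebraMap R C (x i) := by
  simp only [pol, map_sub, map_mul, map_pow, Polynomial.aeval_X, Polynomial.aeval_C]

theorem asI_eq : asI p a x = SepVar.idl (pol p a x) := by
  rw [asI, SepVar.idl]
  congr 2
  funext i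
  rw [aeval_pol, MvPolynomial.algebraMap_eq]

theorem natDegree_aux [Nontrivial R] (i : ι) :
    (Polynomial.C (a i ^ (p - 1)) * Polynomial.X + Polynomial.C (x i) : Polynomial R).degree ≤ 1 :=
  Polynomial.degree_linear_le

theorem monic_pol (hp : 2 ≤ p) [Nontrivial R] (i : ι) : (pol p a x i).Monic := by
  rw [pol, sub_sub]
  refine Polynomial.monic_X_pow_sub (n := p) ?_
  refine (natDegree_aux p a x i).trans_lt ?_
  exact_mod_cast hp

theorem natDegree_pol (hp : 2 ≤ p) [Nontrivial R] (i : ι) : (pol p a x i).natDegree = p := by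
  rw [pol, sub_sub]
  have h1 : (Polynomial.C (a i ^ (p - 1)) * Polynomial.X + Polynomial.C (x i) : Polynomial R).degree
      < (p : WithBot ℕ) := (natDegree_aux p a x i).trans_lt (by exact_mod_cast hp)
  refine Polynomial.natDegree_eq_of_degree_eq_some ?_
  rw [Polynomial.degree_sub_eq_left_of_degree_lt]
  · exact Polynomial.degree_X_pow p
  · rw [Polynomial.degree_X_pow]
    exact h1

/-- The monomial basis. -/
noncomputable def basis (hp : 2 ≤ p) [Nontrivial R] [Fintype ι] :
    Module.Basis (ι → Fin p) R (MvPolynomial ι R ⧸ asI p a x) :=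
  SepVar.basis' (pol p a x) (asI p a x) (asI_eq p a x) p (monic_pol p a x hp)
    (natDegree_pol p a x hp) (by omega)

theorem basis_apply (hp : 2 ≤ p) [Nontrivial R] [Fintype ι] (e : ι → Fin p) :
    basis p a x hp e = ∏ i, Ideal.Quotient.mk (asI p a x) (X i) ^ (e i : ℕ) :=
  SepVar.basis'_apply _ _ _ _ _ _ _ e

theorem free (hp : 2 ≤ p) [Nontrivial R] [Fintype ι] :
    Module.Free R (MvPolynomial ι R ⧸ asI p a x) := Module.Free.of_basis (basis p a x hp)

theorem finite (hp : 2 ≤ p) [Nontrivial R] [Fintype ι] :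
    Module.Finite R (MvPolynomial ι R ⧸ asI p a x) := Module.Finite.of_basis (basis p a x hp)

theorem finrank_eq (hp : 2 ≤ p) [Nontrivial R] [Fintype ι] :
    Module.finrank R (MvPolynomial ι R ⧸ asI p a x) = p ^ Fintype.card ι := by
  classical
  rw [Module.finrank_eq_card_basis (basis p a x hp)]
  simp

theorem nontrivial (hp : 2 ≤ p) [Nontrivial R] [Fintype ι] :
    Nontrivial (MvPolynomial ι R ⧸ asI p a x) := by
  have : NeZero p := ⟨by omega⟩
  exact (basis p a x hp).linearIndependent.ne_zero (fun _ => 0) |> fun h => ⟨_, _, h⟩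

/-- The unit is the basis vector of index zero. -/
theorem basis_zero (hp : 2 ≤ p) [Nontrivial R] [Fintype ι] :
    basis p a x hp (fun _ => ⟨0, by omega⟩) = 1 := by
  rw [basis_apply]
  simp

theorem algebraMap_injective (hp : 2 ≤ p) [Nontrivial R] [Fintype ι] :
    Function.Injective (algebraMap R (MvPolynomial ι R ⧸ asI p a x)) := by
  rw [injective_iff_map_eq_zero]
  intro r hr
  have h1 : r • basis p a x hp (fun _ => ⟨0, by omega⟩) = 0 := by
    rw [basis_zero, ← Algebra.algebraMap_eq_smul_one, hr]
  have h2 := congrArg (fun z => (basis p a x hp).repr z (fun _ => ⟨0, by omega⟩)) h1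
  simpa using h2

theorem rel (i : ι) : Ideal.Quotient.mk (asI p a x) (X i) ^ p =
    algebraMap R _ (a i ^ (p - 1)) * Ideal.Quotient.mk (asI p a x) (X i) + algebraMap R _ (x i) := by
  have h : Ideal.Quotient.mk (asI p a x) (X i ^ p - C (a i ^ (p - 1)) * X i - C (x i)) = 0 :=
    Ideal.Quotient.eq_zero_iff_mem.mpr (Ideal.subset_span ⟨i, rfl⟩)
  rw [map_sub, map_sub, map_mul, map_pow, sub_sub, sub_eq_zero] at h
  exact h

/-- The universal property. -/
noncomputable def lift {D : Type w} [CommRing D] [Algebra R D] (c : ι → D)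
    (hc : ∀ i, c i ^ p = algebraMap R D (a i ^ (p - 1)) * c i + algebraMap R D (x i)) :
    (MvPolynomial ι R ⧸ asI p a x) →ₐ[R] D :=
  Ideal.Quotient.liftₐ (asI p a x) (MvPolynomial.aeval c) (by
    intro y hy
    have h : asI p a x ≤ RingHom.ker (MvPolynomial.aeval c : MvPolynomial ι R →ₐ[R] D) := by
      refine Ideal.span_le.mpr ?_
      rintro _ ⟨i, rfl⟩
      change MvPolynomial.aeval c (X i ^ p - C (a i ^ (p - 1)) * X i - C (x i)) = 0
      rw [map_sub, map_sub, map_mul, map_pow, MvPolynomial.aeval_X, MvPolynomial.aeval_C,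
        MvPolynomial.aeval_C, hc i]
      ring
    exact h hy)

@[simp] theorem lift_X {D : Type w} [CommRing D] [Algebra R D] (c : ι → D)
    (hc : ∀ i, c i ^ p = algebraMap R D (a i ^ (p - 1)) * c i + algebraMap R D (x i)) (i : ι) :
    lift p a x c hc (Ideal.Quotient.mk (asI p a x) (X i)) = c i := by
  change MvPolynomial.aeval c (X i) = c i
  exact MvPolynomial.aeval_X c i

/-- Every element is a constant plus an element of the ideal generated by the variables. -/
theorem exists_sub_mem (I : Ideal (MvPolynomial ι R)) (y : MvPolynomial ι R ⧸ I) :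
    ∃ r : R, y - algebraMap R _ r ∈
      Ideal.span (Set.range fun i => Ideal.Quotient.mk I (X i)) := by
  obtain ⟨q, rfl⟩ := Ideal.Quotient.mk_surjective y
  induction q using MvPolynomial.induction_on with
  | C r =>
    refine ⟨r, ?_⟩
    have : Ideal.Quotient.mk I (C r) = algebraMap R (MvPolynomial ι R ⧸ I) r := rfl
    rw [this, sub_self]
    exact zero_mem _
  | add q1 q2 h1 h2 =>
    obtain ⟨r1, h1⟩ := h1
    obtain ⟨r2, h2⟩ := h2
    refine ⟨r1 + r2, ?_⟩
    have := add_mem h1 h2
    rw [map_add, map_add]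
    convert this using 1
    ring
  | mul_X q i _ =>
    refine ⟨0, ?_⟩
    rw [map_zero, sub_zero, map_mul]
    exact Ideal.mul_mem_left _ _ (Ideal.subset_span ⟨i, rfl⟩)

end K873.ArtSch
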