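import Groth.Agent.WildQuot.K873.InEt
import Groth.Agent.WildQuot.K873.RegFree
import Groth.Agent.Hensel.BranchPurity

/-!
# Purity of the branch locus for finite extensions of a regular local ring

A normal local domain `A`, finite over a regular local ring `R`, which is étale over `R` at all primes of height
at most one, is (formally) étale over `R`.
-/

set_option autoImplicit false
universe u v w

open IsLocalRing

namespace K873.GalPur

open K873.InEt Groth.Agent.Desc.RegAt Groth.Agent.Desc.NormalSmooth

/-- The localization of a local ring at its maximal ideal. -/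
noncomputable def atMax (A : Type u) [CommRing A] [IsLocalRing A] :
    A ≃ₐ[A] Localization.AtPrime (maximalIdeal A) :=
  IsLocalization.atUnits A (maximalIdeal A).primeCompl (by
    intro x hx
    by_contra h
    exact hx ((mem_maximalIdeal x).mpr h))

theorem formallyEtale_of_isEtaleAt {R : Type u} {A : Type v} [CommRing R] [CommRing A] [IsLocalRing A]
    [Algebra R A] [h : Algebra.IsEtaleAt R (maximalIdeal A)] : Algebra.FormallyEtale R A :=
  Algebra.FormallyEtale.of_equiv ((atMax A).restrictScalars R).symm

theorem pure_aux {R A : Type u} [CommRing R] [IsRegularLocalRing R] [CommRing A] [IsDomain A]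
    [IsIntegrallyClosed A] [IsLocalRing A] [Algebra R A] [Module.Finite R A]
    (hinj : Function.Injective (algebraMap R A))
    (het : ∀ (q : Ideal A) [q.IsPrime], q.height ≤ 1 → Algebra.IsEtaleAt R q) :
    Algebra.FormallyEtale R A := by
  have hloc := K873.RegFree.isLocalHom_of_isIntegral hinj
  have hNA : IsNoetherianRing A := IsNoetherianRing.of_finite R A
  by_cases h0 : (maximalIdeal A).height ≤ 1
  · have := het (maximalIdeal A) h0
    exact formallyEtale_of_isEtaleAt
  · have hunder : (maximalIdeal A).under R = maximalIdeal R :=
      eq_maximalIdeal (Ideal.isMaximal_comap_of_isIntegral_of_isMaximal _)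
    have h1 : RegAt R ((maximalIdeal A).under R) := by
      rw [RegAt]
      have : IsRegularLocalRing (Localization.AtPrime (maximalIdeal R)) :=
        IsRegularLocalRing.of_ringEquiv (atMax R).toRingEquiv
      convert this
    have h2 : NormalAt A (maximalIdeal A) := by
      refine ⟨MulEquiv.isDomain A (atMax A).symm.toRingEquiv.toMulEquiv, ?_⟩
      exact IsIntegrallyClosed.of_equiv (atMax A).toRingEquiv
    have h3 : ((maximalIdeal A).under R).height = (maximalIdeal A).height := by
      rw [hunder]
      have h4 := maximalIdeal_height_eq_ringKrullDim (R := R)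
      have h5 := maximalIdeal_height_eq_ringKrullDim (R := A)
      rw [Groth.Agent.FlatA.DimFin.ringKrullDim_eq_of_isIntegral_of_injective R A hinj, ← h4] at h5
      exact (WithBot.coe_injective h5).symm
    have := Groth.Agent.Hensel.BranchPurity.isEtaleAt_of_height_one (R := R) (maximalIdeal A) h1 h2 h3
      (le_of_lt (not_le.mp h0)) (fun q' _ _ hq' => by
        have := het q' hq'.le
        infer_instance)
    exact formallyEtale_of_isEtaleAt

/-- Purity, arbitrary universes. -/
theorem formallyEtale {R : Type u} {A : Type v} [CommRing R] [IsRegularLocalRing R] [CommRing A]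
    [IsDomain A] [IsIntegrallyClosed A] [IsLocalRing A] [Algebra R A] [Module.Finite R A]
    (hinj : Function.Injective (algebraMap R A))
    (het : ∀ (q : Ideal A) [q.IsPrime], q.height ≤ 1 → Algebra.IsEtaleAt R q) :
    Algebra.FormallyEtale R A := by
  let R' := (algebraMap R A).range
  let e : R ≃+* R' := RingEquiv.ofBijective (algebraMap R A).rangeRestrict
    ⟨fun a b h => hinj (congrArg Subtype.val h), (algebraMap R A).rangeRestrict_surjective⟩
  have h1 : IsRegularLocalRing R' := IsRegularLocalRing.of_ringEquiv e
  let _ : Algebra R R' := (algebraMap R A).rangeRestrict.toAlgebra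
  have : IsScalarTower R R' A := IsScalarTower.of_algebraMap_eq' rfl
  have : Module.Finite R' A := Module.Finite.of_restrictScalars_finite R R' A
  have hRR' : Algebra.FormallyEtale R R' := formallyEtale_of_bijective e.bijective
  have h2 : Algebra.FormallyEtale R' A := by
    refine pure_aux (R := R') (A := A) Subtype.val_injective ?_
    intro q _ hq
    have := het q hq
    exact Algebra.FormallyEtale.of_restrictScalars (R := R)
  exact Algebra.FormallyEtale.comp R R' A

/-- Galois form of purity. -/
theorem formallyEtale_of_inertia {R : Type u} {A : Type v} [CommRing R] [IsRegularLocalRing R]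
    [CommRing A] [IsDomain A] [IsIntegrallyClosed A] [IsLocalRing A] [Algebra R A] [Module.Finite R A]
    (hinj : Function.Injective (algebraMap R A))
    {G : Type w} [Group G] [Finite G] [MulSemiringAction G A] [SMulCommClass G R A] [FaithfulSMul G A]
    (hfix : ∀ a : A, (∀ h : G, h • a = a) → a ∈ Set.range (algebraMap R A))
    (hin : ∀ P : Ideal A, P.IsPrime → P.height = 1 → P.inertia G = ⊥) :
    Algebra.FormallyEtale R A := by
  have hNA : IsNoetherianRing A := IsNoetherianRing.of_finite R A
  refine formallyEtale hinj fun q _ hq => isEtaleAt hinj hfix q ?_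
  rcases hq.lt_or_eq with h | h
  · have h0 : q.height = 0 := Order.lt_one_iff.mp h
    have hq0 : q = ⊥ := by
      by_contra hne
      have h4 : (⊥ : Ideal A).height < q.height :=
        Ideal.height_strict_mono_of_isPrime (bot_lt_iff_ne_bot.mpr hne)
      rw [h0] at h4
      exact not_lt_bot h4
    subst hq0
    rw [eq_bot_iff]
    intro σ hσ
    rw [Subgroup.mem_bot]
    refine FaithfulSMul.eq_of_smul_eq_smul (α := A) fun a => ?_
    rw [one_smul, ← sub_eq_zero]
    exact hσ a
  · exact hin q inferInstance h

end K873.GalPur
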