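import Groth.Agent.S0271
import Mathlib.RingTheory.Etale.Locus

/-!
# Trivial inertia implies étale

If a finite group `G` acts on `A` with ring of invariants (the image of) `R`, then `A` is étale over `R` at every
prime with trivial inertia group.
-/

set_option autoImplicit false
universe u v w

namespace K873.InEt

theorem formallyEtale_of_bijective {R : Type u} {S : Type v} [CommRing R] [CommRing S] [Algebra R S]
    (h : Function.Bijective (algebraMap R S)) : Algebra.FormallyEtale R S :=
  Algebra.FormallyEtale.of_equiv (AlgEquiv.ofBijective (Algebra.ofId R S) h)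

theorem isEtaleAt_of_formallyEtale {R : Type u} {S : Type v} [CommRing R] [CommRing S] [Algebra R S]
    [Algebra.FormallyEtale R S] (q : Ideal S) [q.IsPrime] : Algebra.IsEtaleAt R q :=
  have : Algebra.FormallyEtale S (Localization.AtPrime q) :=
    Algebra.FormallyEtale.of_isLocalization q.primeCompl
  Algebra.FormallyEtale.comp R S (Localization.AtPrime q)

open Pi1 in
theorem isEtaleAt_aux {A : Type v} [CommRing A] {G : Type v} [Group G] [Finite G]
    [MulSemiringAction G A] (q : Ideal A) [q.IsPrime] (hq : q.inertia G = ⊥) :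
    Algebra.IsEtaleAt (FixedPoints.subring A G) q := by
  obtain ⟨g, hg, hget⟩ := Groth.Agent.S0271.result G A q
  let B₁ := FixedPoints.subring A (q.inertia G)
  let q₁ : Ideal B₁ := q.comap B₁.subtype
  have hq₁ : q₁.IsPrime := Ideal.IsPrime.comap _
  have : IsScalarTower (FixedPoints.subring A G) B₁ A := IsScalarTower.of_algebraMap_eq' rfl
  have h1 : Algebra.IsEtaleAt (FixedPoints.subring A G) q₁ := by
    have h2 := (Algebra.basicOpen_subset_etaleLocus_iff (R := FixedPoints.subring A G) (f := g)).mpr
      inferInstance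
    exact h2 (show (⟨q₁, hq₁⟩ : PrimeSpectrum B₁) ∈ PrimeSpectrum.basicOpen g from hg)
  have h3 : Algebra.FormallyEtale B₁ A := by
    refine formallyEtale_of_bijective ⟨Subtype.val_injective, fun a => ⟨⟨a, fun σ => ?_⟩, rfl⟩⟩
    have h4 : (σ : G) = 1 := Subgroup.mem_bot.mp (hq.le σ.2)
    change (σ : G) • a = a
    rw [h4, one_smul]
  have h4 : Algebra.IsEtaleAt B₁ q := isEtaleAt_of_formallyEtale q
  have : q.LiesOver q₁ := ⟨rfl⟩
  exact Algebra.IsEtaleAt.comp q₁ q

theorem isEtaleAt_aux' {A : Type v} [CommRing A] {G : Type v} [Group G] [Finite G]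
    [MulSemiringAction G A] {R : Type u} [CommRing R] [Algebra R A] [SMulCommClass G R A]
    (hinj : Function.Injective (algebraMap R A))
    (hfix : ∀ a : A, (∀ h : G, h • a = a) → a ∈ Set.range (algebraMap R A))
    (q : Ideal A) [q.IsPrime] (hq : q.inertia G = ⊥) :
    Algebra.IsEtaleAt R q := by
  have h1 := isEtaleAt_aux q hq
  let f : R →+* FixedPoints.subring A G := (algebraMap R A).codRestrict _ (fun r σ => smul_algebraMap σ r)
  let _ : Algebra R (FixedPoints.subring A G) := f.toAlgebra
  have : IsScalarTower R (FixedPoints.subring A G) A := IsScalarTower.of_algebraMap_eq' rfl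
  have h2 : Algebra.FormallyEtale R (FixedPoints.subring A G) := by
    refine formallyEtale_of_bijective ⟨fun a b h => hinj (congrArg Subtype.val h), fun b => ?_⟩
    obtain ⟨r, hr⟩ := hfix b b.2
    exact ⟨r, Subtype.ext hr⟩
  let q₁ : Ideal (FixedPoints.subring A G) := q.comap (FixedPoints.subring A G).subtype
  have hq₁ : q₁.IsPrime := Ideal.IsPrime.comap _
  have h4 : Algebra.IsEtaleAt R q₁ := isEtaleAt_of_formallyEtale q₁
  have : q.LiesOver q₁ := ⟨rfl⟩
  exact Algebra.IsEtaleAt.comp q₁ q

/-- If a finite group `G` acts on `A` with ring of invariants the image of `R`, then `A` is étale over `R` at every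
prime with trivial inertia group. -/
theorem isEtaleAt {A : Type v} [CommRing A] {G : Type w} [Group G] [Finite G]
    [MulSemiringAction G A] {R : Type u} [CommRing R] [Algebra R A] [SMulCommClass G R A]
    (hinj : Function.Injective (algebraMap R A))
    (hfix : ∀ a : A, (∀ h : G, h • a = a) → a ∈ Set.range (algebraMap R A))
    (q : Ideal A) [q.IsPrime] (hq : q.inertia G = ⊥) :
    Algebra.IsEtaleAt R q := by
  obtain ⟨G', ⟨e⟩⟩ : ∃ G' : Type v, Nonempty (G' ≃ G) :=
    ⟨ULift.{v} (Fin (Nat.card G)), ⟨Equiv.ulift.trans (Finite.equivFin G).symm⟩⟩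
  have : Finite G' := Finite.of_equiv G e.symm
  let _ : Group G' := e.group
  let e' : G' ≃* G := { e with map_mul' := fun a b => e.apply_symm_apply _ }
  let _ : MulSemiringAction G' A := MulSemiringAction.compHom A e'.toMonoidHom
  have hsm : ∀ (g : G') (a : A), g • a = e' g • a := fun _ _ => rfl
  have : SMulCommClass G' R A := ⟨fun g r a => by rw [hsm, hsm, smul_comm]⟩
  refine isEtaleAt_aux' (G := G') hinj (fun a ha => hfix a fun h => ?_) q ?_
  · have := ha (e'.symm h)
    rwa [hsm, MulEquiv.apply_symm_apply] at this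
  · rw [eq_bot_iff]
    intro g hg
    have h1 : e' g ∈ q.inertia G := fun x => hg x
    rw [hq, Subgroup.mem_bot] at h1
    rw [Subgroup.mem_bot]
    exact e'.injective (h1.trans (map_one e').symm)

end K873.InEt
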