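import Mathlib

/-!
# Separated-variable complete intersections `R[X_i] / (f_i (X_i))`

For monic `f_i` the quotient is free over `R` with basis the monomials `X^e`, `e_i < deg f_i`.
-/

set_option autoImplicit false
universe u v w
open MvPolynomial

namespace K873.SepVar

variable {R : Type u} [CommRing R] {ι : Type v}

/-- The ideal generated by the polynomials `f i` evaluated at the `i`-th variable. -/
noncomputable def idl (f : ι → Polynomial R) : Ideal (MvPolynomial ι R) :=
  Ideal.span (Set.range fun i => Polynomial.aeval (X i : MvPolynomial ι R) (f i))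

variable (f : ι → Polynomial R)

theorem aeval_mk (i : ι) :
    Polynomial.aeval (Ideal.Quotient.mk (idl f) (X i)) (f i) = 0 := by
  rw [← Ideal.Quotient.mkₐ_eq_mk R, Polynomial.aeval_algHom_apply, Ideal.Quotient.mkₐ_eq_mk]
  exact Ideal.Quotient.eq_zero_iff_mem.mpr (Ideal.subset_span ⟨i, rfl⟩)

/-- The universal property of the quotient. -/
noncomputable def lift {C : Type w} [CommRing C] [Algebra R C] (c : ι → C)
    (hc : ∀ i, Polynomial.aeval (c i) (f i) = 0) : (MvPolynomial ι R ⧸ idl f) →ₐ[R] C :=
  Ideal.Quotient.liftₐ (idl f) (MvPolynomial.aeval c) (by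
    intro x hx
    have h : idl f ≤ RingHom.ker (MvPolynomial.aeval c : MvPolynomial ι R →ₐ[R] C) := by
      refine Ideal.span_le.mpr ?_
      rintro _ ⟨i, rfl⟩
      change MvPolynomial.aeval c (Polynomial.aeval (X i : MvPolynomial ι R) (f i)) = 0
      rw [← Polynomial.aeval_algHom_apply, MvPolynomial.aeval_X]
      exact hc i
    exact h hx)

@[simp] theorem lift_X {C : Type w} [CommRing C] [Algebra R C] (c : ι → C)
    (hc : ∀ i, Polynomial.aeval (c i) (f i) = 0) (i : ι) :
    lift f c hc (Ideal.Quotient.mk (idl f) (X i)) = c i := by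
  change MvPolynomial.aeval c (X i) = c i
  exact MvPolynomial.aeval_X c i

theorem algHom_ext {I : Ideal (MvPolynomial ι R)} {C : Type w} [CommRing C] [Algebra R C]
    {φ ψ : (MvPolynomial ι R ⧸ I) →ₐ[R] C}
    (h : ∀ i, φ (Ideal.Quotient.mk I (X i)) = ψ (Ideal.Quotient.mk I (X i))) : φ = ψ := by
  refine Ideal.Quotient.algHom_ext _ ?_
  exact MvPolynomial.algHom_ext fun i => h i

theorem adjoin_eq_top (I : Ideal (MvPolynomial ι R)) :
    Algebra.adjoin R (Set.range fun i => Ideal.Quotient.mk I (X i)) = ⊤ := by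
  have h1 : Algebra.adjoin R (Set.range (X : ι → MvPolynomial ι R)) = ⊤ := MvPolynomial.adjoin_range_X
  have h2 := congrArg (Subalgebra.map (Ideal.Quotient.mkₐ R I)) h1
  rw [AlgHom.map_adjoin, ← Set.range_comp, Algebra.map_top] at h2
  rw [show (fun i => Ideal.Quotient.mk I (X i : MvPolynomial ι R)) =
    (⇑(Ideal.Quotient.mkₐ R I) ∘ X) from rfl, h2]
  exact (AlgHom.range_eq_top _).mpr (Ideal.Quotient.mkₐ_surjective R I)

variable [Fintype ι]

/-- The reduced monomials. -/
noncomputable def mon (I : Ideal (MvPolynomial ι R)) (d : ι → ℕ) (e : ∀ i, Fin (d i)) :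
    MvPolynomial ι R ⧸ I :=
  ∏ i, Ideal.Quotient.mk I (X i) ^ (e i : ℕ)

theorem linearIndependent_mon (hf : ∀ i, (f i).Monic) :
    LinearIndependent R (mon (idl f) fun i => (f i).natDegree) := by
  classical
  let b : ∀ i, Module.Basis (Fin (f i).natDegree) R (AdjoinRoot (f i)) := fun i =>
    AdjoinRoot.powerBasisAux' (hf i)
  have hb : ∀ i j, b i j = AdjoinRoot.root (f i) ^ (j : ℕ) := by
    intro i j
    exact (AdjoinRoot.powerBasis' (hf i)).basis_eq_pow j
  let Φ : (MvPolynomial ι R ⧸ idl f) →ₐ[R] PiTensorProduct R (fun i => AdjoinRoot (f i)) :=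
    lift f (fun i => PiTensorProduct.singleAlgHom i (AdjoinRoot.root (f i))) (by
      intro i
      rw [Polynomial.aeval_algHom_apply, Polynomial.aeval_def, AdjoinRoot.algebraMap_eq,
        AdjoinRoot.eval₂_root, map_zero])
  refine LinearIndependent.of_comp Φ.toLinearMap ?_
  have h : (Φ.toLinearMap ∘ mon (idl f) fun i => (f i).natDegree) = Basis.piTensorProduct b := by
    funext e
    rw [Basis.piTensorProduct_apply]
    change Φ (∏ i, _) = _
    rw [map_prod]
    simp only [map_pow]
    have h1 : ∀ i, Φ (Ideal.Quotient.mk (idl f) (X i)) ^ (e i : ℕ) =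
        PiTensorProduct.tprodMonoidHom R (Pi.mulSingle i (AdjoinRoot.root (f i) ^ (e i : ℕ))) := by
      intro i
      rw [show Φ (Ideal.Quotient.mk (idl f) (X i)) =
        PiTensorProduct.singleAlgHom (R := R) i (AdjoinRoot.root (f i)) from lift_X f _ _ i, ← map_pow]
      rfl
    rw [Finset.prod_congr rfl fun i _ => h1 i, ← map_prod,
      Finset.univ_prod_mulSingle (fun i => AdjoinRoot.root (f i) ^ (e i : ℕ))]
    change PiTensorProduct.tprod R _ = _
    congr 1
    funext i
    exact (hb i (e i)).symm
  rw [h]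
  exact (Basis.piTensorProduct b).linearIndependent

theorem span_mon (hf : ∀ i, (f i).Monic) (hd : ∀ i, 0 < (f i).natDegree) :
    ⊤ ≤ Submodule.span R (Set.range (mon (idl f) fun i => (f i).natDegree)) := by
  classical
  set M := Submodule.span R (Set.range (mon (idl f) fun i => (f i).natDegree)) with hM
  have hone : (1 : MvPolynomial ι R ⧸ idl f) ∈ M := by
    refine Submodule.subset_span ⟨fun i => ⟨0, hd i⟩, ?_⟩
    simp [mon]
  have hmul : ∀ i, ∀ m ∈ M, Ideal.Quotient.mk (idl f) (X i) * m ∈ M := by
    intro i m hm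
    induction hm using Submodule.span_induction with
    | mem x hx =>
      obtain ⟨e, rfl⟩ := hx
      have hsplit : ∀ (e' : ∀ i, Fin ((f i).natDegree)), mon (idl f) (fun i => (f i).natDegree) e' =
          Ideal.Quotient.mk (idl f) (X i) ^ (e' i : ℕ) *
            ∏ j ∈ Finset.univ.erase i, Ideal.Quotient.mk (idl f) (X j) ^ (e' j : ℕ) := by
        intro e'
        rw [mon, ← Finset.mul_prod_erase _ _ (Finset.mem_univ i)]
      have hupd : ∀ (t : Fin (f i).natDegree),
          Ideal.Quotient.mk (idl f) (X i) ^ (t : ℕ) *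
            ∏ j ∈ Finset.univ.erase i, Ideal.Quotient.mk (idl f) (X j) ^ (e j : ℕ) ∈ M := by
        intro t
        refine Submodule.subset_span ⟨Function.update e i t, ?_⟩
        rw [hsplit]
        rw [Function.update_self]
        congr 1
        refine Finset.prod_congr rfl fun j hj => ?_
        rw [Function.update_of_ne (Finset.ne_of_mem_erase hj)]
      rw [hsplit, ← mul_assoc, ← pow_succ']
      by_cases h : (e i : ℕ) + 1 < (f i).natDegree
      · exact hupd ⟨_, h⟩
      · have h1 : (e i : ℕ) + 1 = (f i).natDegree := by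
          have := (e i).2
          omega
        have h2 := aeval_mk f i
        rw [Polynomial.aeval_eq_sum_range, Finset.sum_range_succ,
          (hf i).coeff_natDegree, one_smul] at h2
        have h3 := congrArg (fun z => z * ∏ j ∈ Finset.univ.erase i,
          Ideal.Quotient.mk (idl f) (X j) ^ (e j : ℕ)) h2
        simp only [add_mul, zero_mul] at h3
        rw [h1, eq_neg_of_add_eq_zero_right h3, Finset.sum_mul]
        refine neg_mem (sum_mem fun t ht => ?_)
        rw [smul_mul_assoc]
        exact M.smul_mem _ (hupd ⟨t, Finset.mem_range.mp ht⟩)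
    | zero => rw [mul_zero]; exact M.zero_mem
    | add x y _ _ hx hy => rw [mul_add]; exact M.add_mem hx hy
    | smul c x _ hx => rw [mul_smul_comm]; exact M.smul_mem _ hx
  intro y _
  obtain ⟨q, rfl⟩ := Ideal.Quotient.mk_surjective y
  induction q using MvPolynomial.induction_on with
  | C r =>
    have : Ideal.Quotient.mk (idl f) (C r) = algebraMap R (MvPolynomial ι R ⧸ idl f) r := rfl
    rw [this, Algebra.algebraMap_eq_smul_one]
    exact M.smul_mem _ hone
  | add q1 q2 h1 h2 => rw [map_add]; exact M.add_mem (h1 trivial) (h2 trivial)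
  | mul_X q i h => rw [map_mul, mul_comm]; exact hmul i _ (h trivial)

/-- The monomial basis. -/
noncomputable def basis (hf : ∀ i, (f i).Monic) (hd : ∀ i, 0 < (f i).natDegree) :
    Module.Basis (∀ i, Fin (f i).natDegree) R (MvPolynomial ι R ⧸ idl f) :=
  Module.Basis.mk (linearIndependent_mon f hf) (span_mon f hf hd)

theorem basis_apply (hf : ∀ i, (f i).Monic) (hd : ∀ i, 0 < (f i).natDegree)
    (e : ∀ i, Fin (f i).natDegree) :
    basis f hf hd e = ∏ i, Ideal.Quotient.mk (idl f) (X i) ^ (e i : ℕ) := by
  rw [basis, Module.Basis.mk_apply, mon]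

theorem linearIndependent_mon' (hf : ∀ i, (f i).Monic) (D : ι → ℕ)
    (hD : (fun i => (f i).natDegree) = D) : LinearIndependent R (mon (idl f) D) := by
  subst hD
  exact linearIndependent_mon f hf

theorem span_mon' (hf : ∀ i, (f i).Monic) (hd : ∀ i, 0 < (f i).natDegree) (D : ι → ℕ)
    (hD : (fun i => (f i).natDegree) = D) : ⊤ ≤ Submodule.span R (Set.range (mon (idl f) D)) := by
  subst hD
  exact span_mon f hf hd

/-- The monomial basis, for an ideal and degrees given up to equality. -/
noncomputable def basis' (I : Ideal (MvPolynomial ι R)) (hI : I = idl f) (d : ℕ)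
    (hf : ∀ i, (f i).Monic) (hfd : ∀ i, (f i).natDegree = d) (hd : 0 < d) :
    Module.Basis (ι → Fin d) R (MvPolynomial ι R ⧸ I) :=
  Module.Basis.mk (v := mon I fun _ => d)
    (by
      subst hI
      exact linearIndependent_mon' f hf _ (funext hfd))
    (by
      subst hI
      exact span_mon' f hf (fun i => (hfd i).symm ▸ hd) _ (funext hfd))

theorem basis'_apply (I : Ideal (MvPolynomial ι R)) (hI : I = idl f) (d : ℕ)
    (hf : ∀ i, (f i).Monic) (hfd : ∀ i, (f i).natDegree = d) (hd : 0 < d) (e : ι → Fin d) :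
    basis' f I hI d hf hfd hd e = ∏ i, Ideal.Quotient.mk I (X i) ^ (e i : ℕ) := by
  rw [basis', Module.Basis.mk_apply, mon]

end K873.SepVar
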